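import Mathlib

/-!
# Tensors, the diagonal action of matrices, block-diagonal matrices and block characters

Interface for the tensor product theorem (S18559).  `R` is the index set of all basis vectors,
`A` the set of tensor slots, a tensor is a function `(A → R) → k`.
-/

set_option autoImplicit false

namespace K865.TenAct

open scoped BigOperators

section act

variable {A R : Type*} [Fintype A] [Fintype R]

/-- The diagonal action of a matrix on tensors. -/
noncomputable def act {k : Type*} [CommSemiring k] (g : Matrix R R k) (s : (A → R) → k) : (A → R) → k :=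
  letI := Classical.decEq A
  fun J => ∑ J' : A → R, (∏ a, g (J a) (J' a)) * s J'

theorem act_apply {k : Type*} [CommSemiring k] [DecidableEq A] (g : Matrix R R k)
    (s : (A → R) → k) (J : A → R) :
    act g s J = ∑ J' : A → R, (∏ a, g (J a) (J' a)) * s J' := by
  unfold act
  congr!

theorem act_one {k : Type*} [CommSemiring k] [DecidableEq R] (s : (A → R) → k) :
    act (1 : Matrix R R k) s = s := by
  classical
  funext J
  rw [act_apply, Finset.sum_eq_single J]
  · simp
  · intro J' _ hJ
    have : ∃ a, J a ≠ J' a := by
      by_contra h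
      push Not at h
      exact hJ (funext fun a => (h a).symm)
    obtain ⟨a, ha⟩ := this
    rw [Finset.prod_eq_zero (Finset.mem_univ a) (by simp [ha]), zero_mul]
  · intro h
    exact absurd (Finset.mem_univ J) h

theorem act_mul {k : Type*} [CommSemiring k] (g h : Matrix R R k) (s : (A → R) → k) :
    act (g * h) s = act g (act h s) := by
  classical
  funext J
  simp only [act_apply, Matrix.mul_apply]
  have h1 : ∀ J' : A → R, (∏ a, ∑ j, g (J a) j * h j (J' a)) * s J' =
      ∑ J'' : A → R, (∏ a, g (J a) (J'' a)) * ((∏ a, h (J'' a) (J' a)) * s J') := by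
    intro J'
    rw [Finset.prod_univ_sum, Finset.sum_mul]
    simp only [Fintype.piFinset_univ, Finset.prod_mul_distrib, mul_assoc]
  simp only [h1]
  rw [Finset.sum_comm]
  simp only [Finset.mul_sum]

theorem act_add {k : Type*} [CommSemiring k] (g : Matrix R R k) (s t : (A → R) → k) :
    act g (s + t) = act g s + act g t := by
  classical
  funext J
  simp only [act_apply, Pi.add_apply, mul_add, Finset.sum_add_distrib]

theorem act_smul {k : Type*} [CommSemiring k] (g : Matrix R R k) (c : k) (s : (A → R) → k) :
    act g (c • s) = c • act g s := by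
  classical
  funext J
  simp only [act_apply, Pi.smul_apply, smul_eq_mul, Finset.mul_sum]
  refine Finset.sum_congr rfl fun J' _ => by ring

theorem act_zero {k : Type*} [CommSemiring k] (g : Matrix R R k) :
    act g (0 : (A → R) → k) = 0 := by
  classical
  funext J
  simp [act_apply]

theorem map_act {k l : Type*} [CommSemiring k] [CommSemiring l] (f : k →+* l)
    (g : Matrix R R k) (s : (A → R) → k) :
    (fun J => f (act g s J)) = act (g.map f) (fun J => f (s J)) := by
  classical
  funext J
  simp only [act_apply, map_sum, map_mul, map_prod, Matrix.map_apply]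

theorem map_act_apply {k l : Type*} [CommSemiring k] [CommSemiring l] (f : k →+* l)
    (g : Matrix R R k) (s : (A → R) → k) (J : A → R) :
    f (act g s J) = act (g.map f) (fun J => f (s J)) J :=
  congrFun (map_act f g s) J

theorem act_diagonal {k : Type*} [CommSemiring k] [DecidableEq R] (d : R → k)
    (s : (A → R) → k) (J : A → R) :
    act (Matrix.diagonal d) s J = (∏ a, d (J a)) * s J := by
  classical
  rw [act_apply, Finset.sum_eq_single J]
  · simp
  · intro J' _ hJ
    have : ∃ a, J a ≠ J' a := by
      by_contra h
      push Not at h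
      exact hJ (funext fun a => (h a).symm)
    obtain ⟨a, ha⟩ := this
    rw [Finset.prod_eq_zero (Finset.mem_univ a) (by simp [ha]), zero_mul]
  · intro h
    exact absurd (Finset.mem_univ J) h

end act

section blk

variable {R B : Type*} [Fintype R] [DecidableEq R]

/-- Block-diagonal matrices with respect to `b : R → B`. -/
def IsBlk {k : Type*} [Zero k] (b : R → B) (h : Matrix R R k) : Prop :=
  ∀ i j, b i ≠ b j → h i j = 0

omit [Fintype R] in
theorem IsBlk.one {k : Type*} [CommRing k] (b : R → B) : IsBlk b (1 : Matrix R R k) := by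
  intro i j hij
  exact Matrix.one_apply_ne (fun h => hij (by rw [h]))

omit [DecidableEq R] in
theorem IsBlk.mul {k : Type*} [CommRing k] {b : R → B} {g h : Matrix R R k} (hg : IsBlk b g)
    (hh : IsBlk b h) : IsBlk b (g * h) := by
  intro i j hij
  rw [Matrix.mul_apply]
  refine Finset.sum_eq_zero fun l _ => ?_
  by_cases h1 : b i = b l
  · rw [hh l j (fun h2 => hij (h1.trans h2)), mul_zero]
  · rw [hg i l h1, zero_mul]

omit [Fintype R] [DecidableEq R] in
theorem IsBlk.map {k l : Type*} [CommRing k] [CommRing l] (f : k →+* l) {b : R → B}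
    {h : Matrix R R k} (hh : IsBlk b h) : IsBlk b (h.map f) := by
  intro i j hij
  rw [Matrix.map_apply, hh i j hij, map_zero]

/-- The determinant of the block `β`. -/
def bdet {k : Type*} [CommRing k] [DecidableEq B] (b : R → B) (h : Matrix R R k) (β : B) : k :=
  (h.toSquareBlock b β).det

theorem bdet_one {k : Type*} [CommRing k] [DecidableEq B] (b : R → B) (β : B) :
    bdet b (1 : Matrix R R k) β = 1 := by
  have : (1 : Matrix R R k).toSquareBlock b β = 1 := by
    ext i j
    simp [Matrix.toSquareBlock_def, Matrix.one_apply, Subtype.ext_iff]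
  rw [bdet, this, Matrix.det_one]

theorem bdet_mul {k : Type*} [CommRing k] [DecidableEq B] {b : R → B} {g h : Matrix R R k}
    (hh : IsBlk b h) (β : B) : bdet b (g * h) β = bdet b g β * bdet b h β := by
  rw [bdet, bdet, bdet, ← Matrix.det_mul]
  congr 1
  ext i j
  simp only [Matrix.toSquareBlock_def, Matrix.of_apply, Matrix.mul_apply]
  rw [← Finset.sum_subset (Finset.subset_univ (Finset.univ.filter fun l => b l = β))]
  · exact (Finset.sum_subtype _ (by simp) _)
  · intro l _ hl
    rw [hh l j.1 (fun h2 => hl (by simp [h2, j.2])), mul_zero]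

theorem bdet_map {k l : Type*} [CommRing k] [CommRing l] [DecidableEq B] (f : k →+* l)
    (b : R → B) (h : Matrix R R k) (β : B) : bdet b (h.map f) β = f (bdet b h β) := by
  rw [bdet, bdet, RingHom.map_det]
  rfl

/-- The character `∏_β det(h_β) ^ w_β` (over the blocks which occur). -/
def chi {k : Type*} [CommRing k] [DecidableEq B] (b : R → B) (w : B → ℕ) (h : Matrix R R k) : k :=
  ∏ β ∈ Finset.univ.image b, bdet b h β ^ w β

theorem chi_one {k : Type*} [CommRing k] [DecidableEq B] (b : R → B) (w : B → ℕ) :
    chi b w (1 : Matrix R R k) = 1 := by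
  simp [chi, bdet_one]

theorem chi_mul {k : Type*} [CommRing k] [DecidableEq B] {b : R → B} (w : B → ℕ)
    {g h : Matrix R R k} (hh : IsBlk b h) : chi b w (g * h) = chi b w g * chi b w h := by
  simp only [chi, bdet_mul hh, mul_pow, Finset.prod_mul_distrib]

theorem chi_map {k l : Type*} [CommRing k] [CommRing l] [DecidableEq B] (f : k →+* l)
    (b : R → B) (w : B → ℕ) (h : Matrix R R k) : chi b w (h.map f) = f (chi b w h) := by
  simp only [chi, bdet_map, map_prod, map_pow]

/-- The number of slots `a` with `J a = j`. -/
def cnt {A : Type*} [Fintype A] (J : A → R) (j : R) : ℕ := (Finset.univ.filter fun a => J a = j).card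

theorem sum_cnt_mul {A : Type*} [Fintype A] {M : Type*} [AddCommMonoid M] (J : A → R) (f : R → M) :
    ∑ j, cnt J j • f j = ∑ a, f (J a) := by
  simp only [cnt]
  rw [← Finset.sum_fiberwise_of_maps_to (s := Finset.univ) (t := Finset.univ) (g := J)
    (fun a _ => Finset.mem_univ _) (fun a => f (J a))]
  refine Finset.sum_congr rfl fun j _ => ?_
  rw [Finset.sum_congr rfl (g := fun _ => f j) (fun a ha => by rw [(Finset.mem_filter.1 ha).2]),
    Finset.sum_const]

end blk

end K865.TenAct
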