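import Mathlib
import Groth.Agent.ShStab.K865.TenAct

/-!
# Assembling block-diagonal matrices
-/

set_option autoImplicit false

namespace K865.Asm

open K865.TenAct
open scoped BigOperators

variable {R B : Type*} [Fintype R] [DecidableEq R] [DecidableEq B] {k : Type*} [CommRing k]

/-- The block-diagonal matrix with blocks `K β`. -/
def asm (b : R → B) (K : ∀ β : B, Matrix {i // b i = β} {i // b i = β} k) : Matrix R R k :=
  fun i j => if h : b i = b j then K (b j) ⟨i, h⟩ ⟨j, rfl⟩ else 0

omit [Fintype R] [DecidableEq R] in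
theorem isBlk_asm (b : R → B) (K : ∀ β : B, Matrix {i // b i = β} {i // b i = β} k) :
    IsBlk b (asm b K) := by
  intro i j hij
  rw [asm, dif_neg hij]

omit [Fintype R] [DecidableEq R] in
theorem asm_apply {b : R → B} (K : ∀ β : B, Matrix {i // b i = β} {i // b i = β} k) (β : B)
    (i j : {i // b i = β}) : asm b K i.1 j.1 = K β i j := by
  obtain ⟨i, hi⟩ := i
  obtain ⟨j, hj⟩ := j
  subst hj
  rw [asm, dif_pos hi]

omit [Fintype R] [DecidableEq R] in
theorem asm_toSquareBlock (b : R → B) (K : ∀ β : B, Matrix {i // b i = β} {i // b i = β} k)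
    (β : B) : (asm b K).toSquareBlock b β = K β := by
  ext i j
  rw [Matrix.toSquareBlock_def]
  exact asm_apply K β i j

omit [Fintype R] [DecidableEq R] in
theorem asm_of_isBlk {b : R → B} {h : Matrix R R k} (hh : IsBlk b h) :
    asm b (fun β => h.toSquareBlock b β) = h := by
  ext i j
  by_cases hij : b i = b j
  · rw [asm, dif_pos hij]; rfl
  · rw [asm, dif_neg hij, hh i j hij]

omit [Fintype R] in
theorem asm_one (b : R → B) : asm b (fun _ => (1 : Matrix _ _ k)) = 1 := by
  have := asm_of_isBlk (IsBlk.one (k := k) b)
  rw [← this]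
  congr 1
  funext β
  ext i j
  simp [Matrix.toSquareBlock_def, Matrix.one_apply, Subtype.ext_iff]

omit [DecidableEq R] in
theorem asm_mul (b : R → B) (K K' : ∀ β : B, Matrix {i // b i = β} {i // b i = β} k) :
    asm b K * asm b K' = asm b (fun β => K β * K' β) := by
  classical
  ext i j
  rw [Matrix.mul_apply]
  by_cases hij : b i = b j
  · have h1 : asm b (fun β => K β * K' β) i j = ∑ l : {l // b l = b j},
        K (b j) ⟨i, hij⟩ l * K' (b j) l ⟨j, rfl⟩ := by
      rw [asm, dif_pos hij, Matrix.mul_apply]
    rw [h1, ← Finset.sum_subset (Finset.subset_univ (Finset.univ.filter fun l => b l = b j))]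
    · rw [Finset.sum_subtype (p := fun l => b l = b j) _ (by simp)]
      refine Finset.sum_congr rfl fun l _ => ?_
      rw [← asm_apply K (b j) ⟨i, hij⟩ l, ← asm_apply K' (b j) l ⟨j, rfl⟩]
    · intro l _ hl
      rw [isBlk_asm b K' l j (fun h => hl (by simp [h])), mul_zero]
  · rw [isBlk_asm b _ i j hij]
    exact ((isBlk_asm b K).mul (isBlk_asm b K')) i j hij

theorem bdet_asm (b : R → B) (K : ∀ β : B, Matrix {i // b i = β} {i // b i = β} k) (β : B) :
    bdet b (asm b K) β = (K β).det := by
  rw [bdet, asm_toSquareBlock]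

theorem chi_asm (b : R → B) (w : B → ℕ)
    (K : ∀ β : B, Matrix {i // b i = β} {i // b i = β} k) :
    chi b w (asm b K) = ∏ β ∈ Finset.univ.image b, (K β).det ^ w β := by
  simp only [chi, bdet_asm]

theorem isUnit_det_asm (b : R → B) (K : ∀ β : B, Matrix {i // b i = β} {i // b i = β} k)
    (hK : ∀ β, IsUnit (K β).det) : IsUnit (asm b K).det := by
  have h1 : asm b K * asm b (fun β => (K β)⁻¹) = 1 := by
    rw [asm_mul, ← asm_one b]
    congr 1
    funext β
    exact Matrix.mul_nonsing_inv _ (hK β)
  have h2 : (asm b K).det * (asm b (fun β => (K β)⁻¹)).det = 1 := by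
    rw [← Matrix.det_mul, h1, Matrix.det_one]
  exact IsUnit.of_mul_eq_one _ h2

/-- the determinant of a block-diagonal matrix is a unit iff all blocks are -/
theorem isUnit_bdet {b : R → B} {h : Matrix R R k} (hh : IsBlk b h) (hu : IsUnit h.det) (β : B) :
    IsUnit (bdet b h β) := by
  -- the β-block of the inverse
  have h1 : h⁻¹ * h = 1 := Matrix.nonsing_inv_mul _ hu
  have h2 := bdet_mul (g := h⁻¹) hh β
  rw [h1, bdet_one] at h2
  exact IsUnit.of_mul_eq_one _ (by rw [mul_comm]; exact h2.symm)

theorem isUnit_chi {b : R → B} (w : B → ℕ) {h : Matrix R R k} (hh : IsBlk b h)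
    (hu : IsUnit h.det) : IsUnit (chi b w h) := by
  rw [chi]
  refine (Finset.prod_induction _ IsUnit (fun a b ha hb => ha.mul hb) isUnit_one fun β _ => ?_)
  exact (isUnit_bdet hh hu β).pow _

/-- one block -/
def one1 (b : R → B) (β : B) (x : Matrix {i // b i = β} {i // b i = β} k) :
    ∀ β : B, Matrix {i // b i = β} {i // b i = β} k :=
  Function.update (fun _ => 1) β x

/-- `ext_β(x)` -/
def ext (b : R → B) (β : B) (x : Matrix {i // b i = β} {i // b i = β} k) : Matrix R R k :=
  asm b (one1 b β x)

omit [Fintype R] in
theorem isBlk_ext (b : R → B) (β : B) (x : Matrix {i // b i = β} {i // b i = β} k) :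
    IsBlk b (ext b β x) := isBlk_asm b _

theorem ext_mul (b : R → B) (β : B) (x y : Matrix {i // b i = β} {i // b i = β} k) :
    ext b β x * ext b β y = ext b β (x * y) := by
  rw [ext, ext, asm_mul, ext]
  congr 1
  funext γ
  by_cases h : γ = β
  · subst h; simp [one1]
  · simp [one1, Function.update_of_ne h]

theorem ext_comm (b : R → B) {β γ : B} (hne : β ≠ γ) (x : Matrix {i // b i = β} {i // b i = β} k)
    (y : Matrix {i // b i = γ} {i // b i = γ} k) :
    ext b β x * ext b γ y = ext b γ y * ext b β x := by
  rw [ext, ext, asm_mul, asm_mul]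
  congr 1
  funext δ
  by_cases h : δ = β
  · subst h; simp [one1, Function.update_of_ne hne]
  · simp [one1, Function.update_of_ne h]

theorem isUnit_det_ext (b : R → B) (β : B) (x : Matrix {i // b i = β} {i // b i = β} k)
    (hx : IsUnit x.det) : IsUnit (ext b β x).det := by
  refine isUnit_det_asm b _ fun γ => ?_
  by_cases h : γ = β
  · subst h; simpa [one1] using hx
  · simp [one1, Function.update_of_ne h]

theorem chi_ext (b : R → B) (w : B → ℕ) (β : B) (hβ : β ∈ Finset.univ.image b)
    (x : Matrix {i // b i = β} {i // b i = β} k) : chi b w (ext b β x) = x.det ^ w β := by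
  rw [ext, chi_asm, Finset.prod_eq_single β]
  · simp [one1]
  · intro γ _ h
    simp [one1, Function.update_of_ne h]
  · intro h; exact absurd hβ h

theorem ext_map {l : Type*} [CommRing l] (f : k →+* l) (b : R → B) (β : B)
    (x : Matrix {i // b i = β} {i // b i = β} k) : (ext b β x).map f = ext b β (x.map f) := by
  refine Matrix.ext fun i j => ?_
  rw [Matrix.map_apply, ext, ext, asm, asm]
  by_cases hij : b i = b j
  · rw [dif_pos hij, dif_pos hij]
    by_cases h : b j = β
    · subst h; simp [one1]
    · simp [one1, Function.update_of_ne h, Matrix.one_apply, apply_ite f]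
  · rw [dif_neg hij, dif_neg hij, map_zero]

/-- Induction principle: an invariant under all `ext β x` is invariant under block matrices. -/
theorem blk_induction (b : R → B) (P : Matrix R R k → Prop) (h1 : P 1)
    (hm : ∀ g h, IsBlk b g → IsBlk b h → P g → P h → P (g * h))
    (he : ∀ β ∈ Finset.univ.image b, ∀ x : Matrix {i // b i = β} {i // b i = β} k,
      IsUnit x.det → P (ext b β x))
    (h : Matrix R R k) (hh : IsBlk b h) (hu : IsUnit h.det) : P h := by
  classical
  have key : ∀ (T : Finset B), T ⊆ Finset.univ.image b →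
      P (asm b fun β => if β ∈ T then h.toSquareBlock b β else 1) := by
    intro T
    induction T using Finset.induction_on with
    | empty =>
      intro _
      simpa [asm_one] using h1
    | insert β T hβ ih =>
      intro hT
      have h2 := ih (fun γ hγ => hT (Finset.mem_insert_of_mem hγ))
      have h3 : (asm b fun γ => if γ ∈ insert β T then h.toSquareBlock b γ else 1) =
          ext b β (h.toSquareBlock b β) *
            asm b (fun γ => if γ ∈ T then h.toSquareBlock b γ else 1) := by
        rw [ext, asm_mul]
        congr 1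
        funext γ
        by_cases hγ : γ = β
        · subst hγ; simp [one1, hβ]
        · by_cases hγT : γ ∈ T
          · simp [one1, Function.update_of_ne hγ, hγT]
          · simp [one1, Function.update_of_ne hγ, hγT, hγ]
      rw [h3]
      exact hm _ _ (isBlk_ext b β _) (isBlk_asm b _)
        (he β (hT (Finset.mem_insert_self _ _)) _ (isUnit_bdet hh hu β)) h2
  have h2 := key (Finset.univ.image b) (Finset.Subset.refl _)
  have h3 : (asm b fun β => if β ∈ Finset.univ.image b then h.toSquareBlock b β else 1) = h := by
    ext i j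
    by_cases hij : b i = b j
    · rw [asm, dif_pos hij, if_pos (Finset.mem_image_of_mem b (Finset.mem_univ j))]
      rfl
    · rw [asm, dif_neg hij, hh i j hij]
  rwa [h3] at h2

end K865.Asm
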