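import Mathlib
import Groth.Agent.ShStab.K865.Asm

/-!
# Diagonalisation over a valuation ring (Cartan decomposition)
-/

set_option autoImplicit false

namespace K865.Cartan

open K865.TenAct K865.Asm Matrix

variable {L : Type*} [Field L] (O : ValuationSubring L)

/-- every square matrix indexed by `n` is diagonalisable by invertible matrices over `O` -/
def HasCartan (n : Type*) [Fintype n] [DecidableEq n] : Prop :=
  ∀ M : Matrix n n L, ∃ P Q : Matrix n n O, IsUnit P.det ∧ IsUnit Q.det ∧
    ∃ d : n → L, P.map O.subtype * M * Q.map O.subtype = diagonal d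

theorem hasCartan_equiv {n m : Type*} [Fintype n] [DecidableEq n] [Fintype m] [DecidableEq m]
    (σ : n ≃ m) (h : HasCartan O n) : HasCartan O m := by
  intro M
  obtain ⟨P, Q, hP, hQ, d, hd⟩ := h (M.submatrix σ σ)
  refine ⟨P.submatrix σ.symm σ.symm, Q.submatrix σ.symm σ.symm, ?_, ?_, d ∘ σ.symm, ?_⟩
  · rwa [det_submatrix_equiv_self]
  · rwa [det_submatrix_equiv_self]
  · have h1 := congrArg (fun X => X.submatrix σ.symm σ.symm) hd
    rw [← submatrix_mul_equiv _ _ _ σ.symm _, ← submatrix_mul_equiv _ _ _ σ.symm _] at h1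
    have h2 : (M.submatrix σ σ).submatrix σ.symm σ.symm = M := by
      ext i j; simp
    rw [h2] at h1
    have h3 : (diagonal d).submatrix σ.symm σ.symm = diagonal (d ∘ σ.symm) :=
      submatrix_diagonal_equiv _ _
    rw [h3] at h1
    exact h1

theorem hasCartan_of_isEmpty (n : Type*) [Fintype n] [DecidableEq n] [IsEmpty n] :
    HasCartan O n := by
  intro M
  refine ⟨1, 1, by simp, by simp, fun i => isEmptyElim i, ?_⟩
  ext i
  exact isEmptyElim i

/-- the largest entry moved to the corner -/
theorem hasCartan_sum {n : Type*} [Fintype n] [DecidableEq n] (h : HasCartan O n) :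
    HasCartan O (Unit ⊕ n) := by
  intro M
  by_cases hM : M = 0
  · refine ⟨1, 1, by simp, by simp, 0, ?_⟩
    rw [hM, mul_zero, zero_mul]
    ext i j; simp [diagonal_apply]
  -- entry of maximal valuation
  obtain ⟨⟨i0, j0⟩, hmax⟩ := Finite.exists_max
    (fun x : (Unit ⊕ n) × (Unit ⊕ n) => O.valuation (M x.1 x.2))
  have ha : M i0 j0 ≠ 0 := by
    intro h0
    apply hM
    ext i j
    have := hmax (i, j)
    simp only [h0, map_zero, le_zero_iff, map_eq_zero] at this
    simpa using this
  set a := M i0 j0 with hadef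
  let σ : Equiv.Perm (Unit ⊕ n) := Equiv.swap i0 (Sum.inl ())
  let τ : Equiv.Perm (Unit ⊕ n) := Equiv.swap j0 (Sum.inl ())
  let M1 : Matrix (Unit ⊕ n) (Unit ⊕ n) L := M.submatrix σ τ
  have hM1a : M1 (Sum.inl ()) (Sum.inl ()) = a := by
    simp [M1, σ, τ, hadef]
  have hdiv : ∀ i j, M1 i j / a ∈ O := by
    intro i j
    rw [← O.valuation_le_one_iff, map_div₀]
    have h1 := hmax (σ i, τ j)
    have h2 : O.valuation a ≠ 0 := by simpa using ha
    rw [div_le_one₀ (zero_lt_iff.2 h2)]
    exact h1
  -- blocks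
  let r : Matrix Unit n L := M1.toBlocks₁₂
  let c : Matrix n Unit L := M1.toBlocks₂₁
  let D : Matrix n n L := M1.toBlocks₂₂
  let ro : Matrix Unit n O := fun i j => ⟨M1 (Sum.inl i) (Sum.inr j) / a, hdiv _ _⟩
  let co : Matrix n Unit O := fun i j => ⟨M1 (Sum.inr i) (Sum.inl j) / a, hdiv _ _⟩
  obtain ⟨P', Q', hP', hQ', d, hd⟩ := h (D - (co.map O.subtype) * r)
  have hM1 : M1 = fromBlocks (a • (1 : Matrix Unit Unit L)) r c D := by
    have : M1.toBlocks₁₁ = a • (1 : Matrix Unit Unit L) := by
      ext i j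
      have : (i = ()) := rfl
      simp [toBlocks₁₁, hM1a]
    rw [← this]
    exact (fromBlocks_toBlocks M1).symm
  have hr : r = a • ro.map O.subtype := by
    ext i j
    simp only [r, toBlocks₁₂, of_apply, Matrix.smul_apply, map_apply, ro, smul_eq_mul]
    change _ = a * (M1 (Sum.inl i) (Sum.inr j) / a)
    field_simp
  have hc : c = a • co.map O.subtype := by
    ext i j
    simp only [c, toBlocks₂₁, of_apply, Matrix.smul_apply, map_apply, co, smul_eq_mul]
    change _ = a * (M1 (Sum.inr i) (Sum.inl j) / a)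
    field_simp
  let P2 : Matrix (Unit ⊕ n) (Unit ⊕ n) O := fromBlocks 1 0 (-(P' * co)) P'
  let Q2 : Matrix (Unit ⊕ n) (Unit ⊕ n) O := fromBlocks 1 (-(ro * Q')) 0 Q'
  let Pσ : Matrix (Unit ⊕ n) (Unit ⊕ n) O := (1 : Matrix _ _ O).submatrix σ id
  let Qτ : Matrix (Unit ⊕ n) (Unit ⊕ n) O := (1 : Matrix _ _ O).submatrix id τ
  have m1 : (1 : Matrix (Unit ⊕ n) (Unit ⊕ n) O).map O.subtype = 1 :=
    Matrix.map_one _ (map_zero _) (map_one _)
  have hPσ : Pσ.map O.subtype * M = M.submatrix σ id := by
    have h1 : Pσ.map O.subtype = (1 : Matrix (Unit ⊕ n) (Unit ⊕ n) L).submatrix σ id := by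
      rw [← m1]; rfl
    have h2 := Matrix.submatrix_mul (1 : Matrix (Unit ⊕ n) (Unit ⊕ n) L) M σ id id
      Function.bijective_id
    rw [Matrix.one_mul] at h2
    rw [h1, h2]
    rfl
  have hQτ : ∀ X : Matrix (Unit ⊕ n) (Unit ⊕ n) L, X * Qτ.map O.subtype = X.submatrix id τ := by
    intro X
    have h1 : Qτ.map O.subtype = (1 : Matrix (Unit ⊕ n) (Unit ⊕ n) L).submatrix id τ := by
      rw [← m1]; rfl
    have h2 := Matrix.submatrix_mul X (1 : Matrix (Unit ⊕ n) (Unit ⊕ n) L) id id τ
      Function.bijective_id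
    rw [Matrix.mul_one] at h2
    rw [h1, h2]
    rfl
  have hdet1 : IsUnit Pσ.det := by
    have : Pσ.det = ((Equiv.Perm.sign σ : ℤ) : O) * (1 : Matrix (Unit ⊕ n) (Unit ⊕ n) O).det :=
      det_permute _ _
    rw [this, det_one, mul_one]
    rcases Int.units_eq_one_or (Equiv.Perm.sign σ) with h | h <;> rw [h] <;> simp
  have hdet2 : IsUnit Qτ.det := by
    have : Qτ.det = ((Equiv.Perm.sign τ : ℤ) : O) * (1 : Matrix (Unit ⊕ n) (Unit ⊕ n) O).det :=
      det_permute' _ _
    rw [this, det_one, mul_one]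
    rcases Int.units_eq_one_or (Equiv.Perm.sign τ) with h | h <;> rw [h] <;> simp
  refine ⟨P2 * Pσ, Qτ * Q2, ?_, ?_, Sum.elim (fun _ => a) d, ?_⟩
  · rw [det_mul]
    refine IsUnit.mul ?_ hdet1
    rw [det_fromBlocks_zero₁₂, det_one, one_mul]
    exact hP'
  · rw [det_mul]
    refine IsUnit.mul hdet2 ?_
    rw [det_fromBlocks_zero₂₁, det_one, one_mul]
    exact hQ'
  · have e1 : (P2 * Pσ).map O.subtype * M * (Qτ * Q2).map O.subtype =
        P2.map O.subtype * M1 * Q2.map O.subtype := by
      rw [Matrix.map_mul, Matrix.map_mul, Matrix.mul_assoc (P2.map O.subtype), hPσ,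
        ← Matrix.mul_assoc, Matrix.mul_assoc (P2.map O.subtype), hQτ]
      rfl
    rw [e1, hM1]
    have e2 : P2.map O.subtype = fromBlocks 1 0 (-(P'.map O.subtype * co.map O.subtype))
        (P'.map O.subtype) := by
      have a1 : (1 : Matrix Unit Unit O).map O.subtype = 1 :=
        Matrix.map_one _ (map_zero _) (map_one _)
      have a2 : (0 : Matrix Unit n O).map O.subtype = 0 := Matrix.map_zero _ (map_zero _)
      have a3 : (-(P' * co)).map O.subtype = -(P'.map O.subtype * co.map O.subtype) := by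
        rw [← Matrix.map_mul]
        ext i j; simp
      rw [fromBlocks_map, a1, a2, a3]
    have e3 : Q2.map O.subtype = fromBlocks 1 (-(ro.map O.subtype * Q'.map O.subtype)) 0
        (Q'.map O.subtype) := by
      have a1 : (1 : Matrix Unit Unit O).map O.subtype = 1 :=
        Matrix.map_one _ (map_zero _) (map_one _)
      have a2 : (0 : Matrix n Unit O).map O.subtype = 0 := Matrix.map_zero _ (map_zero _)
      have a3 : (-(ro * Q')).map O.subtype = -(ro.map O.subtype * Q'.map O.subtype) := by
        rw [← Matrix.map_mul]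
        ext i j; simp
      rw [fromBlocks_map, a1, a2, a3]
    rw [e2, e3, fromBlocks_multiply, fromBlocks_multiply]
    simp only [Matrix.one_mul, Matrix.zero_mul, Matrix.mul_zero, Matrix.mul_one, add_zero]
    have z1 : (-(P'.map O.subtype * co.map O.subtype) * (a • (1 : Matrix Unit Unit L)) +
        P'.map O.subtype * c) = 0 := by
      rw [hc, Matrix.mul_smul, Matrix.mul_one, Matrix.mul_smul, smul_neg, neg_add_cancel]
    have z2 : ((a • (1 : Matrix Unit Unit L)) * -(ro.map O.subtype * Q'.map O.subtype) +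
        r * Q'.map O.subtype) = 0 := by
      rw [hr, Matrix.smul_mul, Matrix.one_mul, Matrix.smul_mul, smul_neg, neg_add_cancel]
    rw [z1, z2, Matrix.zero_mul, zero_add]
    have z3 : (-(P'.map O.subtype * co.map O.subtype) * r + P'.map O.subtype * D) *
        Q'.map O.subtype = diagonal d := by
      rw [← hd, Matrix.mul_sub, Matrix.neg_mul, Matrix.mul_assoc (P'.map O.subtype) _ r]
      congr 1
      abel
    rw [z3]
    ext i j
    rcases i with i | i <;> rcases j with j | j
    · simp [diagonal_apply]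
    · simp
    · simp
    · simp [diagonal_apply, Sum.inr.injEq]

theorem hasCartan_fin (n : ℕ) : HasCartan O (Fin n) := by
  induction n with
  | zero => exact hasCartan_of_isEmpty O _
  | succ n ih =>
    refine hasCartan_equiv O ?_ (hasCartan_sum O ih)
    exact (Equiv.sumComm _ _).trans ((Equiv.sumCongr (Equiv.refl _)
      (Equiv.ofUnique Unit (Fin 1))).trans finSumFinEquiv)

theorem hasCartan (n : Type*) [Fintype n] [DecidableEq n] : HasCartan O n :=
  hasCartan_equiv O (Fintype.equivFin n).symm (hasCartan_fin O _)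

/-- Cartan decomposition for block-diagonal matrices. -/
theorem exists_cartan {R B : Type*} [Fintype R] [DecidableEq R] [DecidableEq B] (b : R → B)
    (M : Matrix R R L) (hM : IsBlk b M) :
    ∃ P Q : Matrix R R O, IsBlk b P ∧ IsBlk b Q ∧ IsUnit P.det ∧ IsUnit Q.det ∧
      ∃ d : R → L, P.map O.subtype * M * Q.map O.subtype = diagonal d := by
  choose P Q hP hQ d hd using fun β : B => hasCartan O {i // b i = β} (M.toSquareBlock b β)
  refine ⟨asm b P, asm b Q, isBlk_asm b P, isBlk_asm b Q, isUnit_det_asm b P hP,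
    isUnit_det_asm b Q hQ, fun i => d (b i) ⟨i, rfl⟩, ?_⟩
  have e : ∀ K : ∀ β : B, Matrix {i // b i = β} {i // b i = β} O,
      (asm b K).map O.subtype = asm b fun β => (K β).map O.subtype := by
    intro K
    ext i j
    rw [map_apply, asm, asm]
    by_cases hij : b i = b j
    · rw [dif_pos hij, dif_pos hij]; rfl
    · rw [dif_neg hij, dif_neg hij, map_zero]
  conv_lhs => rw [e, e, ← asm_of_isBlk hM]
  rw [asm_mul, asm_mul]
  ext i j
  by_cases hij : b i = b j
  · rw [asm, dif_pos hij, hd, diagonal_apply, diagonal_apply]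
    by_cases h : i = j
    · subst h; simp
    · rw [if_neg h, if_neg (fun h' => h (congrArg Subtype.val h'))]
  · rw [isBlk_asm b _ i j hij, diagonal_apply_ne _ (fun h => hij (by rw [h]))]

end K865.Cartan
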