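import Mathlib
import Groth.Agent.ShStab.K865.Cartan

/-!
# Hilbert-Mumford with valuation rings

If for all invertible block matrices `h` the weight `w` is in the cone of the counts of the
support of `act h u`, then `chi h = Q((chi h)⁻¹, act h u)` for a polynomial `Q`.
-/

set_option autoImplicit false

namespace K865.ValUnit

open K865.TenAct K865.Asm K865.Cartan MvPolynomial
open scoped BigOperators

section nst

variable {R A B : Type*} [Fintype R] [DecidableEq R] [Fintype A] [DecidableEq A]

/-- Transfer of block matrices over an extension field to the algebraically closed ground field. -/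
theorem transfer {k κ : Type*} [Field k] [IsAlgClosed k] [Field κ] [Algebra k κ] (b : R → B)
    (u : (A → R) → k) (g : Matrix R R κ) (hg : IsBlk b g) (hu : IsUnit g.det) :
    ∃ g0 : Matrix R R k, IsBlk b g0 ∧ IsUnit g0.det ∧
      ∀ J, act g0 u J ≠ 0 → act g (fun J => algebraMap k κ (u J)) J ≠ 0 := by
  classical
  let φ : MvPolynomial (Option (R × R)) k →ₐ[k] κ :=
    aeval fun o => o.elim (g.det)⁻¹ (fun x => g x.1 x.2)
  let I : Ideal (MvPolynomial (Option (R × R)) k) := RingHom.ker φ
  have hI : I ≠ ⊤ := RingHom.ker_ne_top _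
  have hne : (zeroLocus k I).Nonempty := by
    by_contra h
    rw [Set.not_nonempty_iff_eq_empty] at h
    have h1 := vanishingIdeal_zeroLocus_eq_radical (K := k) I
    rw [h, vanishingIdeal_empty] at h1
    exact hI (Ideal.radical_eq_top.1 h1.symm)
  obtain ⟨x, hx⟩ := hne
  -- generic matrix
  let G : Matrix R R (MvPolynomial (Option (R × R)) k) := fun i j => X (some (i, j))
  have hG : G.map φ = g := by
    ext i j
    simp [G, φ]
  let ψ : MvPolynomial (Option (R × R)) k →ₐ[k] k := aeval x
  have hker : ∀ P, φ P = 0 → ψ P = 0 := fun P hP => hx P hP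
  refine ⟨G.map ψ, ?_, ?_, ?_⟩
  · intro i j hij
    rw [Matrix.map_apply]
    refine hker _ ?_
    have := congrFun (congrFun hG i) j
    rw [Matrix.map_apply] at this
    rw [this, hg i j hij]
  · have h1 : φ (G.det * X none - 1) = 0 := by
      rw [map_sub, map_mul, map_one]
      have h2 : φ G.det = g.det := by
        rw [← hG]
        exact RingHom.map_det φ.toRingHom G
      rw [h2]
      have : φ (X none) = (g.det)⁻¹ := by simp [φ]
      rw [this, mul_inv_cancel₀ hu.ne_zero, sub_self]
    have h3 := hker _ h1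
    rw [map_sub, map_mul, map_one, sub_eq_zero] at h3
    have h2 : ψ G.det = (G.map ψ).det := RingHom.map_det ψ.toRingHom G
    rw [h2] at h3
    exact IsUnit.of_mul_eq_one _ h3
  · intro J hJ h0
    apply hJ
    have h1 : φ (act G (fun J => C (u J)) J) = act g (fun J => algebraMap k κ (u J)) J := by
      have := map_act_apply (φ : MvPolynomial (Option (R × R)) k →+* κ) G
        (fun J => C (u J)) J
      refine this.trans ?_
      have e1 : G.map (φ : MvPolynomial (Option (R × R)) k →+* κ) = g := hG
      rw [e1]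
      congr 1
      funext J'
      exact φ.commutes (u J')
    have h2 : ψ (act G (fun J => C (u J)) J) = act (G.map ψ) u J := by
      have := map_act_apply (ψ : MvPolynomial (Option (R × R)) k →+* k) G
        (fun J => C (u J)) J
      refine this.trans ?_
      have e1 : (fun J' => (ψ : MvPolynomial (Option (R × R)) k →+* k) (C (u J'))) = u := by
        funext J'
        exact ψ.commutes (u J')
      rw [e1]
      rfl
    rw [← h2]
    exact hker _ (h1.trans h0)

end nst

section hull

variable {R A B : Type*} [Fintype R] [DecidableEq R] [Fintype A] [DecidableEq A] [DecidableEq B]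

/-- cone condition -/
def InCone {k : Type*} [Zero k] (w : R → ℕ) (u : (A → R) → k) : Prop :=
  ∃ t : (A → R) → ℚ, (∀ J, 0 ≤ t J) ∧ (∀ J, u J = 0 → t J = 0) ∧
    ∀ j, (w j : ℚ) = ∑ J, t J * (cnt J j : ℚ)

theorem InCone.nat {k : Type*} [Zero k] {w : R → ℕ} {u : (A → R) → k} (h : InCone w u) :
    ∃ (M : ℕ) (n : (A → R) → ℕ), 0 < M ∧ (∀ J, u J = 0 → n J = 0) ∧
      ∀ j, M * w j = ∑ J, n J * cnt J j := by
  obtain ⟨t, ht0, htu, hw⟩ := h
  refine ⟨∏ J, (t J).den, fun J => (t J * (∏ J, (t J).den : ℕ)).num.toNat,
    Finset.prod_pos fun J _ => (t J).den_pos, ?_, ?_⟩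
  · intro J hJ
    simp [htu J hJ]
  · have key : ∀ J, (((t J * (∏ J, (t J).den : ℕ)).num.toNat : ℕ) : ℚ) =
        t J * (∏ J, (t J).den : ℕ) := by
      intro J
      have h1 : (t J * (∏ J, (t J).den : ℕ)).den = 1 := by
        obtain ⟨m, hm⟩ := Finset.dvd_prod_of_mem (fun J => (t J).den) (Finset.mem_univ J)
        have : t J * ((∏ J, (t J).den : ℕ) : ℚ) = (((t J).num * m : ℤ) : ℚ) := by
          rw [hm]
          push_cast
          rw [← mul_assoc, Rat.mul_den_eq_num]
        rw [this]
        exact Rat.den_intCast _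
      have h2 : 0 ≤ (t J * (∏ J, (t J).den : ℕ)).num :=
        Rat.num_nonneg.2 (mul_nonneg (ht0 J) (Nat.cast_nonneg _))
      have h3 : ((t J * (∏ J, (t J).den : ℕ)).num : ℚ) = t J * (∏ J, (t J).den : ℕ) :=
        Rat.coe_int_num_of_den_eq_one h1
      conv_rhs => rw [← h3]
      have h4 := Int.toNat_of_nonneg h2
      exact_mod_cast congrArg (fun z : ℤ => (z : ℚ)) h4
    intro j
    have : ((((∏ J, (t J).den) * w j : ℕ)) : ℚ) =
        ((∑ J, (t J * (∏ J, (t J).den : ℕ)).num.toNat * cnt J j : ℕ) : ℚ) := by
      rw [Nat.cast_mul, hw j, Nat.cast_sum, Finset.mul_sum]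
      refine Finset.sum_congr rfl fun J _ => ?_
      rw [Nat.cast_mul, key J]
      ring
    exact_mod_cast this

/-- the valuation argument -/
theorem chi_mem {k L : Type*} [Field k] [IsAlgClosed k] [Field L] [Algebra k L] (b : R → B)
    (w : B → ℕ) (u : (A → R) → k)
    (hK : ∀ h : Matrix R R k, IsBlk b h → IsUnit h.det → InCone (fun j => w (b j)) (act h u))
    (O : ValuationSubring L) (hO : ∀ x : k, algebraMap k L x ∈ O) (H : Matrix R R L)
    (hH : IsBlk b H) (hHO : ∀ J, act H (fun J => algebraMap k L (u J)) J ∈ O) :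
    chi b w H ∈ O := by
  classical
  obtain ⟨P, Q, hP, hQ, hPu, hQu, d, hd⟩ := exists_cartan O b H hH
  -- `k → O`
  let ι : k →+* O := (algebraMap k L).codRestrict O.toSubring hO
  letI : Algebra k (IsLocalRing.ResidueField O) := ((IsLocalRing.residue O).comp ι).toAlgebra
  let Qi : Matrix R R O := Q⁻¹
  have hQQi : Q * Qi = 1 := Matrix.mul_nonsing_inv _ hQu
  have hQiQ : Qi * Q = 1 := Matrix.nonsing_inv_mul _ hQu
  have hQi : IsBlk b Qi := by
    -- the inverse of a block matrix is a block matrix
    have h1 : Qi = asm b (fun β => (Q.toSquareBlock b β)⁻¹) := by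
      have h2 : asm b (fun β => (Q.toSquareBlock b β)⁻¹) * Q = 1 := by
        conv_lhs => rw [← asm_of_isBlk hQ]
        rw [asm_mul, ← asm_one b]
        congr 1
        funext β
        rw [asm_toSquareBlock]
        exact Matrix.nonsing_inv_mul _ (isUnit_bdet hQ hQu β)
      calc Qi = (asm b (fun β => (Q.toSquareBlock b β)⁻¹) * Q) * Qi := by rw [h2, one_mul]
        _ = _ := by rw [mul_assoc, hQQi, mul_one]
    rw [h1]; exact isBlk_asm b _
  have hQiu : IsUnit Qi.det := by
    rw [show Qi.det = (Q⁻¹).det from rfl, Matrix.det_nonsing_inv]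
    exact hQu.ringInverse
  let y : (A → R) → O := act Qi (fun J => ι (u J))
  let g : Matrix R R (IsLocalRing.ResidueField O) := Qi.map (IsLocalRing.residue O)
  obtain ⟨g0, hg0, hg0u, hsupp⟩ := transfer b u g (hQi.map _)
    (by
      have : g.det = IsLocalRing.residue O Qi.det :=
        (RingHom.map_det (IsLocalRing.residue O) Qi).symm
      rw [this]; exact hQiu.map _)
  obtain ⟨M, n, hM, hn, hw⟩ := (hK g0 hg0 hg0u).nat
  have hy : ∀ J, n J ≠ 0 → IsUnit (y J) := by
    intro J hJ
    have h1 : act g0 u J ≠ 0 := fun h => hJ (hn J h)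
    have h2 := hsupp J h1
    have h3 : act g (fun J => algebraMap k (IsLocalRing.ResidueField O) (u J)) J =
        IsLocalRing.residue O (y J) := (map_act_apply (IsLocalRing.residue O) Qi _ J).symm
    rw [h3] at h2
    by_contra h4
    exact h2 ((IsLocalRing.residue_eq_zero_iff _).2 ((IsLocalRing.mem_maximalIdeal _).2 h4))
  -- diag(d) y ∈ O
  have hdy : ∀ J, (∏ a, d (J a)) * (y J : L) ∈ O := by
    intro J
    have h1 : act (Matrix.diagonal d) (fun J => (y J : L)) J = (∏ a, d (J a)) * (y J : L) :=
      act_diagonal d _ J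
    rw [← h1, ← hd]
    have h2 : (fun J => (y J : L)) = act (Qi.map O.subtype) (fun J => algebraMap k L (u J)) := by
      funext J
      exact map_act_apply O.subtype Qi (fun J => ι (u J)) J
    have h3 : Q.map O.subtype * Qi.map O.subtype = 1 := by
      rw [← Matrix.map_mul, hQQi]
      exact Matrix.map_one _ (map_zero _) (map_one _)
    rw [h2, ← act_mul, mul_assoc, h3, mul_one, act_mul, act_apply]
    refine sum_mem fun J' _ => mul_mem (prod_mem fun a _ => ?_) (hHO J')
    exact (P (J a) (J' a)).2
  have hval : ∀ J, n J ≠ 0 → O.valuation (∏ a, d (J a)) ≤ 1 := by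
    intro J hJ
    have h1 := (O.valuation_le_one_iff _).2 (hdy J)
    rw [map_mul, (O.valuation_eq_one_iff (y J)).1 (hy J hJ), mul_one] at h1
    exact h1
  -- chi
  have hchiO : ∀ P : Matrix R R O, IsBlk b P → IsUnit P.det →
      O.valuation (chi b w (P.map O.subtype)) = 1 := by
    intro P hP hPu
    rw [chi_map]
    exact (O.valuation_eq_one_iff _).1 (isUnit_chi w hP hPu)
  have hc1 : O.valuation (chi b w (Matrix.diagonal d)) = O.valuation (chi b w H) := by
    rw [← hd, chi_mul w (hQ.map _), chi_mul w hH, map_mul, map_mul, hchiO P hP hPu,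
      hchiO Q hQ hQu, one_mul, mul_one]
  have hc2 : chi b w (Matrix.diagonal d) = ∏ j, d j ^ w (b j) := by
    have h1 : ∀ β, bdet b (Matrix.diagonal d) β = ∏ j ∈ Finset.univ.filter (fun j => b j = β), d j := by
      intro β
      have : (Matrix.diagonal d).toSquareBlock b β =
          Matrix.diagonal (fun i : {i // b i = β} => d i.1) := by
        ext i j
        simp [Matrix.toSquareBlock_def, Matrix.diagonal_apply, Subtype.ext_iff]
      rw [bdet, this, Matrix.det_diagonal]
      exact (Finset.prod_subtype (p := fun j => b j = β) _ (by simp) (fun j => d j)).symm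
    rw [chi]
    simp only [h1, ← Finset.prod_pow]
    rw [← Finset.prod_fiberwise_of_maps_to (s := Finset.univ) (t := Finset.univ.image b) (g := b)
      (fun j _ => Finset.mem_image_of_mem b (Finset.mem_univ j)) (fun j => d j ^ w (b j))]
    refine Finset.prod_congr rfl fun β _ => Finset.prod_congr rfl fun j hj => ?_
    rw [(Finset.mem_filter.1 hj).2]
  have hfin : O.valuation (chi b w H) ^ M ≤ 1 := by
    rw [← hc1, hc2, ← map_pow, ← Finset.prod_pow]
    have h1 : ∏ j, (d j ^ w (b j)) ^ M = ∏ J : A → R, (∏ a, d (J a)) ^ n J := by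
      have h2 : ∀ j, (d j ^ w (b j)) ^ M = ∏ J : A → R, (d j ^ cnt J j) ^ n J := by
        intro j
        rw [← pow_mul, mul_comm, hw j, ← Finset.prod_pow_eq_pow_sum]
        refine Finset.prod_congr rfl fun J _ => ?_
        rw [← pow_mul, mul_comm]
      simp only [h2]
      rw [Finset.prod_comm]
      refine Finset.prod_congr rfl fun J _ => ?_
      rw [Finset.prod_pow]
      congr 1
      have := Finset.prod_fiberwise_of_maps_to (s := Finset.univ) (t := Finset.univ) (g := J)
        (fun a _ => Finset.mem_univ _) (fun a => d (J a))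
      rw [← this]
      refine Finset.prod_congr rfl fun j _ => ?_
      rw [Finset.prod_congr rfl (g := fun _ => d j)
        (fun a ha => by rw [(Finset.mem_filter.1 ha).2]), Finset.prod_const]
      rfl
    rw [h1, map_prod]
    refine Finset.prod_le_one' fun J _ => ?_
    rw [map_pow]
    by_cases hJ : n J = 0
    · rw [hJ, pow_zero]
    · exact pow_le_one' (hval J hJ) _
  rw [← O.valuation_le_one_iff]
  by_contra hcon
  push Not at hcon
  exact absurd hfin (not_le.2 (one_lt_pow' hcon hM.ne'))

end hull

end K865.ValUnit
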