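import Mathlib
import Groth.Agent.ShStab.K865.ValUnit

/-!
# The polynomial identity `chi h = Q((chi h)⁻¹, act h u)`
-/

set_option autoImplicit false

namespace K865.ExPoly

open K865.TenAct K865.Asm K865.ValUnit MvPolynomial
open scoped BigOperators

variable {R A B : Type*} [Fintype R] [DecidableEq R] [Fintype A] [DecidableEq A] [DecidableEq B]

/-- generic block matrix -/
noncomputable def gblk (b : R → B) (k : Type*) [CommRing k] :
    Matrix R R (MvPolynomial (R × R) k) := fun i j => if b i = b j then X (i, j) else 0

omit [Fintype R] [DecidableEq R] in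
theorem isBlk_gblk (b : R → B) (k : Type*) [CommRing k] : IsBlk b (gblk b k) := by
  intro i j hij
  rw [gblk, if_neg hij]

omit [Fintype R] [DecidableEq R] in
theorem gblk_map (b : R → B) {k l : Type*} [CommRing k] [CommRing l]
    (φ : MvPolynomial (R × R) k →+* l) (h : Matrix R R l) (hh : IsBlk b h)
    (hφ : ∀ i j, φ (X (i, j)) = h i j) : (gblk b k).map φ = h := by
  refine Matrix.ext fun i j => ?_
  rw [Matrix.map_apply, gblk]
  by_cases hij : b i = b j
  · rw [if_pos hij, hφ]
  · rw [if_neg hij, map_zero, hh i j hij]

theorem chi_gblk_ne_zero (b : R → B) (w : B → ℕ) (k : Type*) [CommRing k] [Nontrivial k] :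
    chi b w (gblk b k) ≠ 0 := by
  intro h
  let φ : MvPolynomial (R × R) k →+* k := eval fun x => (1 : Matrix R R k) x.1 x.2
  have h1 := congrArg φ h
  rw [← chi_map, gblk_map b φ 1 (IsBlk.one b) (by intro i j; simp [φ]), chi_one, map_zero] at h1
  exact one_ne_zero h1

theorem exists_poly {k : Type*} [Field k] [IsAlgClosed k] (b : R → B)
    (w : B → ℕ) (u : (A → R) → k)
    (hK : ∀ h : Matrix R R k, IsBlk b h → IsUnit h.det → InCone (fun j => w (b j)) (act h u)) :
    ∃ Q : MvPolynomial (Option (A → R)) k, ∀ h : Matrix R R k, IsBlk b h → IsUnit h.det →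
      chi b w h = eval (fun o => o.elim (chi b w h)⁻¹ (act h u)) Q := by
  classical
  let R0 := MvPolynomial (R × R) k
  let Hp : Matrix R R R0 := gblk b k
  let cp : R0 := chi b w Hp
  have hcp : cp ≠ 0 := chi_gblk_ne_zero b w k
  let Ac := Localization.Away cp
  have hle : Submonoid.powers cp ≤ nonZeroDivisors R0 := powers_le_nonZeroDivisors_of_noZeroDivisors hcp
  have : IsDomain Ac := IsLocalization.isDomain_localization hle
  let L := FractionRing Ac
  have hinj : Function.Injective (algebraMap Ac L) := IsFractionRing.injective Ac L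
  let f : Option (A → R) → Ac := fun o =>
    o.elim (IsLocalization.Away.invSelf cp) (fun J => algebraMap R0 Ac (act Hp (fun J => C (u J)) J))
  let fL : Option (A → R) → L := fun o => algebraMap Ac L (f o)
  let Sub := Algebra.adjoin k (Set.range fL)
  have hmem : ∀ o, fL o ∈ Sub := fun o => Algebra.subset_adjoin ⟨o, rfl⟩
  let cL : L := algebraMap Ac L (algebraMap R0 Ac cp)
  have hzc : cL * fL none = 1 := by
    change algebraMap Ac L (algebraMap R0 Ac cp) * algebraMap Ac L (IsLocalization.Away.invSelf cp) = 1
    rw [← map_mul, IsLocalization.Away.mul_invSelf, map_one]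
  let Sb : Subring L := Sub.toSubring
  let zi : Sb := ⟨fL none, hmem none⟩
  have htop : Ideal.span {zi} = ⊤ := by
    by_contra hne
    obtain ⟨O, hO1, hO2⟩ := Ideal.image_subset_nonunits_valuationSubring _ hne
    have hz : O.valuation (fL none) < 1 :=
      O.mem_nonunits_iff.1 (hO2 ⟨zi, Ideal.subset_span rfl, rfl⟩)
    have hc : cL ∈ O := by
      have h1 := chi_mem b w u hK O (fun x => hO1 (Sub.algebraMap_mem x))
        (Hp.map (algebraMap R0 L)) ((isBlk_gblk b k).map _) (fun J => by
          have h2 : act (Hp.map (algebraMap R0 L)) (fun J => algebraMap k L (u J)) J =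
              fL (some J) := by
            have h3 := map_act_apply (algebraMap R0 L) Hp (fun J => C (u J)) J
            have h4 : (fun J' => algebraMap R0 L (C (u J'))) = fun J => algebraMap k L (u J) := by
              funext J'
              exact (IsScalarTower.algebraMap_apply k R0 L (u J')).symm
            rw [h4] at h3
            rw [← h3]
            exact IsScalarTower.algebraMap_apply R0 Ac L _
          rw [h2]
          exact hO1 (hmem _))
      rw [chi_map] at h1
      have h5 : cL = algebraMap R0 L cp := (IsScalarTower.algebraMap_apply R0 Ac L cp).symm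
      rw [h5]; exact h1
    have h1 := congrArg O.valuation hzc
    rw [map_mul, map_one] at h1
    have h2 := (O.valuation_le_one_iff _).2 hc
    have h3 : O.valuation cL * O.valuation (fL none) < 1 :=
      lt_of_le_of_lt (mul_le_of_le_one_left' h2) hz
    rw [h1] at h3
    exact lt_irrefl _ h3
  -- `cL ∈ Sub`
  have hcS : cL ∈ Sub := by
    have h1 : (1 : Sb) ∈ Ideal.span {zi} := by rw [htop]; exact Submodule.mem_top
    obtain ⟨a, ha⟩ := Ideal.mem_span_singleton'.1 h1
    have h2 : (a : L) * fL none = 1 := congrArg Subtype.val ha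
    have h3 : (a : L) = cL := by
      have h0 : fL none ≠ 0 := fun h => by rw [h, mul_zero] at hzc; exact zero_ne_one hzc
      exact mul_right_cancel₀ h0 (h2.trans hzc.symm)
    rw [← h3]; exact a.2
  obtain ⟨Q, hQ⟩ : ∃ Q : MvPolynomial (Option (A → R)) k, aeval fL Q = cL := by
    have h1 : cL ∈ (aeval fL : MvPolynomial (Option (A → R)) k →ₐ[k] L).range := by
      rw [← Algebra.adjoin_range_eq_range_aeval]; exact hcS
    exact h1
  have hQ' : aeval f Q = algebraMap R0 Ac cp := by
    apply hinj
    have h1 : algebraMap Ac L (aeval f Q) = aeval fL Q := by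
      have := MvPolynomial.aeval_algebraMap_apply (R := k) L f Q
      exact this.symm
    rw [h1, hQ]
  refine ⟨Q, fun h hh hu => ?_⟩
  let φ : R0 →+* k := eval fun x => h x.1 x.2
  have hφ : Hp.map φ = h := gblk_map b φ h hh (by intro i j; simp [φ])
  have hφc : φ cp = chi b w h := by
    change φ (chi b w Hp) = _
    rw [← chi_map, hφ]
  have hcu : IsUnit (φ cp) := by rw [hφc]; exact isUnit_chi w hh hu
  let ψ : Ac →+* k := IsLocalization.Away.lift cp hcu
  have hψ : ∀ x, ψ (algebraMap R0 Ac x) = φ x := fun x => IsLocalization.Away.lift_eq cp hcu x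
  have h1 := congrArg ψ hQ'
  rw [hψ, hφc] at h1
  refine h1.symm.trans ?_
  rw [aeval_def, eval, coe_eval₂Hom]
  have h2 := MvPolynomial.hom_eval₂ Q (algebraMap k Ac) ψ f
  rw [h2]
  congr 1
  · refine RingHom.ext fun x => ?_
    rw [RingHom.comp_apply, IsScalarTower.algebraMap_apply k R0 Ac, hψ]
    simp [φ, R0, MvPolynomial.algebraMap_eq]
  · funext o
    cases o with
    | none =>
      change ψ (IsLocalization.Away.invSelf cp) = (chi b w h)⁻¹
      have h3 : ψ (algebraMap R0 Ac cp) * ψ (IsLocalization.Away.invSelf cp) = 1 := by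
        rw [← map_mul, IsLocalization.Away.mul_invSelf, map_one]
      rw [hψ, hφc] at h3
      exact eq_inv_of_mul_eq_one_right h3
    | some J =>
      change ψ (algebraMap R0 Ac (act Hp (fun J => C (u J)) J)) = act h u J
      rw [hψ, map_act_apply φ, hφ]
      have h4 : (fun J' => φ (C (u J'))) = u := by
        funext J'
        exact eval_C (u J')
      rw [h4]

end K865.ExPoly
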