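import Mathlib

/-!
# The top coefficient functional in characteristic `p`

For `q = p ^ e`, the coefficient of `∏ X_i ^ (q-1)` of `G(g x)` is `det(g)^(q-1)` times the
coefficient of `∏ X_i ^ (q-1)` of `G(x)`.
-/

set_option autoImplicit false

namespace K865.TopCoef

open MvPolynomial

variable {N : Type*} [Fintype N] [DecidableEq N]

/-- the exponent `(m, …, m)` -/
noncomputable def cst (N : Type*) [Fintype N] (m : ℕ) : N →₀ ℕ :=
  Finsupp.equivFunOnFinite.symm fun _ => m

omit [DecidableEq N] in
@[simp] theorem cst_apply (m : ℕ) (i : N) : cst N m i = m := rfl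

/-- coefficient of `∏ X_i ^ m` -/
noncomputable def top {S : Type*} [CommSemiring S] (m : ℕ) (G : MvPolynomial N S) : S :=
  G.coeff (cst N m)

/-- `G(x) ↦ G(g x)` -/
noncomputable def lin {S : Type*} [CommSemiring S] (g : Matrix N N S) :
    MvPolynomial N S →ₐ[S] MvPolynomial N S :=
  aeval fun i => ∑ j, C (g i j) * X j

omit [DecidableEq N] in
theorem lin_X {S : Type*} [CommSemiring S] (g : Matrix N N S) (i : N) :
    lin g (X i) = ∑ j, C (g i j) * X j := by
  simp [lin]

omit [DecidableEq N] in
theorem lin_lin {S : Type*} [CommSemiring S] (g h : Matrix N N S) (G : MvPolynomial N S) :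
    lin h (lin g G) = lin (g * h) G := by
  have : (lin h).comp (lin g) = lin (g * h) := by
    ext i : 1
    simp only [AlgHom.comp_apply, lin_X, map_sum, map_mul, algHom_C, Matrix.mul_apply,
      Finset.mul_sum, Finset.sum_mul, algebraMap_eq]
    rw [Finset.sum_comm]
    refine Finset.sum_congr rfl fun j _ => Finset.sum_congr rfl fun l _ => by ring
  exact DFunLike.congr_fun this G

omit [DecidableEq N] in
theorem isHomogeneous_lin_X {S : Type*} [CommSemiring S] (g : Matrix N N S) (i : N) :
    (lin g (X i)).IsHomogeneous 1 := by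
  rw [lin_X]
  refine IsHomogeneous.sum _ _ _ fun j _ => ?_
  simpa using (isHomogeneous_C _ (g i j)).mul (isHomogeneous_X _ j)

omit [DecidableEq N] in
theorem lin_monomial {S : Type*} [CommSemiring S] (g : Matrix N N S) (s : N →₀ ℕ) (c : S) :
    lin g (monomial s c) = C c * ∏ i, (lin g (X i)) ^ s i := by
  rw [monomial_eq, map_mul, algHom_C, algebraMap_eq, Finsupp.prod_fintype _ _ (by simp), map_prod]
  simp only [map_pow]

omit [DecidableEq N] in
theorem isHomogeneous_lin_monomial {S : Type*} [CommSemiring S] (g : Matrix N N S) (s : N →₀ ℕ)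
    (c : S) : (lin g (monomial s c)).IsHomogeneous (∑ i, s i) := by
  rw [lin_monomial]
  have := (isHomogeneous_C N c).mul (IsHomogeneous.prod Finset.univ
    (fun i => (lin g (X i)) ^ s i) (fun i => 1 * s i)
    (fun i _ => (isHomogeneous_lin_X g i).pow (s i)))
  simpa using this

omit [DecidableEq N] in
theorem top_mul_X_pow {S : Type*} [CommSemiring S] (m : ℕ) (G : MvPolynomial N S) (j : N) (r : ℕ)
    (hr : m < r) (c : S) : top m (G * (C c * X j ^ r)) = 0 := by
  classical
  have : (C c * X j ^ r : MvPolynomial N S) = monomial (Finsupp.single j r) c := by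
    rw [monomial_eq, Finsupp.prod_single_index (by simp)]
  rw [top, this, coeff_mul_monomial', if_neg]
  intro h
  have := h j
  simp at this
  omega

variable (p e : ℕ) [hp : Fact p.Prime]

omit [DecidableEq N] in
theorem lin_X_pow_mul {S : Type*} [CommRing S] [CharP S p] (g : Matrix N N S) (i : N)
    (H : MvPolynomial N S) (m : ℕ) (hm : m < p ^ e) : top m (H * (lin g (X i)) ^ (p ^ e)) = 0 := by
  have h1 : (lin g (X i)) ^ (p ^ e) = ∑ j, C (g i j ^ (p ^ e)) * X j ^ (p ^ e) := by
    rw [lin_X, sum_pow_char_pow p e]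
    refine Finset.sum_congr rfl fun j _ => by rw [mul_pow, C_pow]
  rw [h1, Finset.mul_sum]
  have : top m (∑ j, H * (C (g i j ^ (p ^ e)) * X j ^ (p ^ e))) =
      ∑ j, top m (H * (C (g i j ^ (p ^ e)) * X j ^ (p ^ e))) := by
    simp only [top, coeff_sum]
  rw [this]
  exact Finset.sum_eq_zero fun j _ => top_mul_X_pow m H j _ hm _

/-- `D(g)`, the coefficient of `∏ X_i^(q-1)` in `∏ ℓ_i^(q-1)`. -/
noncomputable def D {S : Type*} [CommSemiring S] (m : ℕ) (g : Matrix N N S) : S :=
  top m (∏ i, (lin g (X i)) ^ m)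

omit [DecidableEq N] in
theorem top_lin_monomial {S : Type*} [CommRing S] [CharP S p] (g : Matrix N N S) (s : N →₀ ℕ)
    (c : S) : top (p ^ e - 1) (lin g (monomial s c)) =
      D (p ^ e - 1) g * top (p ^ e - 1) (monomial s c) := by
  classical
  have hq : 0 < p ^ e := pow_pos hp.out.pos e
  by_cases hs : s = cst N (p ^ e - 1)
  · subst hs
    rw [lin_monomial]
    simp only [cst_apply, top, D, coeff_C_mul, coeff_monomial, if_true]
    ring
  · have h0 : top (p ^ e - 1) (monomial s c) = 0 := by
      rw [top, coeff_monomial, if_neg hs]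
    rw [h0, mul_zero]
    by_cases hd : ∑ i, s i = ∑ i : N, cst N (p ^ e - 1) i
    · obtain ⟨i, hi⟩ : ∃ i, p ^ e ≤ s i := by
        by_contra hcon
        push Not at hcon
        apply hs
        have h1 : ∀ i ∈ Finset.univ, s i ≤ cst N (p ^ e - 1) i := fun i _ => by
          rw [cst_apply]; have := hcon i; omega
        have h2 := (Finset.sum_eq_sum_iff_of_le h1).1 hd
        exact Finsupp.ext fun i => h2 i (Finset.mem_univ i)
      rw [lin_monomial]
      have : C c * ∏ i, (lin g (X i)) ^ s i =
          (C c * ((lin g (X i)) ^ (s i - p ^ e) *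
            ∏ j ∈ Finset.univ.erase i, (lin g (X j)) ^ s j)) * (lin g (X i)) ^ (p ^ e) := by
        rw [← Finset.mul_prod_erase Finset.univ _ (Finset.mem_univ i)]
        have h3 : s i = (s i - p ^ e) + p ^ e := by omega
        conv_lhs => rw [h3, pow_add]
        ring
      rw [this]
      exact lin_X_pow_mul p e g i _ _ (by omega)
    · have h1 := isHomogeneous_lin_monomial g s c
      by_contra hne
      apply hd
      have h2 := h1 hne
      rw [← h2]
      simp [Finsupp.weight_apply, Finsupp.sum_fintype]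

omit [DecidableEq N] in
theorem top_lin_aux {S : Type*} [CommRing S] [CharP S p] (g : Matrix N N S)
    (G : MvPolynomial N S) : top (p ^ e - 1) (lin g G) = D (p ^ e - 1) g * top (p ^ e - 1) G := by
  induction G using MvPolynomial.monomial_add_induction_on with
  | C a => exact top_lin_monomial p e g 0 a
  | monomial_add s c f _ _ hf =>
    rw [map_add]
    simp only [top, coeff_add, mul_add] at *
    have := top_lin_monomial p e g s c
    simp only [top] at this
    rw [this, hf]

omit [DecidableEq N] in
theorem D_mul {S : Type*} [CommRing S] [CharP S p] (g h : Matrix N N S) :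
    D (p ^ e - 1) (g * h) = D (p ^ e - 1) h * D (p ^ e - 1) g := by
  have h1 : ∏ i, (lin (g * h) (X i)) ^ (p ^ e - 1) =
      lin h (∏ i, (lin g (X i)) ^ (p ^ e - 1)) := by
    rw [map_prod]
    refine Finset.prod_congr rfl fun i _ => ?_
    rw [map_pow, lin_lin]
  rw [D, h1, top_lin_aux]
  rfl

theorem D_diagonal {S : Type*} [CommRing S] (m : ℕ) (d : N → S) :
    D m (Matrix.diagonal d) = ∏ i, d i ^ m := by
  have h1 : ∀ i, lin (Matrix.diagonal d) (X i) = C (d i) * X i := by
    intro i
    rw [lin_X, Finset.sum_eq_single i]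
    · simp
    · intro j _ hj
      rw [Matrix.diagonal_apply_ne' _ hj, C_0, zero_mul]
    · intro h; exact absurd (Finset.mem_univ i) h
  simp only [D, h1, mul_pow, Finset.prod_mul_distrib]
  have h2 : (∏ i, (C (d i) ^ m : MvPolynomial N S)) = C (∏ i, d i ^ m) := by
    rw [map_prod]; simp
  have h3 : (∏ i, (X i ^ m : MvPolynomial N S)) = monomial (cst N m) 1 := by
    rw [monomial_eq, Finsupp.prod_fintype _ _ (by simp)]
    simp
  rw [h2, h3, top, coeff_C_mul, coeff_monomial, if_pos rfl, mul_one]

theorem D_transvection {S : Type*} [CommRing S] [CharP S p] (t : Matrix.TransvectionStruct N S) :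
    D (p ^ e - 1) t.toMatrix = 1 := by
  obtain ⟨i, j, hij, c⟩ := t
  have hq : 0 < p ^ e := pow_pos hp.out.pos e
  have h1 : ∀ l, l ≠ i → lin (Matrix.TransvectionStruct.toMatrix ⟨i, j, hij, c⟩) (X l) =
      (X l : MvPolynomial N S) := by
    intro l hl
    rw [lin_X, Finset.sum_eq_single l]
    · simp [Matrix.TransvectionStruct.toMatrix, Matrix.transvection, Matrix.single, hl.symm]
    · intro l' _ hl'
      simp [Matrix.TransvectionStruct.toMatrix, Matrix.transvection, Matrix.single, hl.symm,
        Matrix.one_apply_ne hl'.symm]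
    · intro h; exact absurd (Finset.mem_univ l) h
  have h2 : lin (Matrix.TransvectionStruct.toMatrix ⟨i, j, hij, c⟩) (X i) =
      (X i + C c * X j : MvPolynomial N S) := by
    rw [lin_X, Finset.sum_eq_add (a := i) (b := j) hij]
    · simp [Matrix.TransvectionStruct.toMatrix, Matrix.transvection, Matrix.single,
        Matrix.one_apply_ne hij, hij.symm]
    · intro l _ hl
      simp [Matrix.TransvectionStruct.toMatrix, Matrix.transvection, Matrix.single,
        Matrix.one_apply_ne hl.1.symm, hl.2.symm]
    · intro h; exact absurd (Finset.mem_univ i) h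
    · intro h; exact absurd (Finset.mem_univ j) h
  rw [D, ← Finset.mul_prod_erase _ _ (Finset.mem_univ i), h2]
  have h3 : ∏ x ∈ Finset.univ.erase i,
      (lin (Matrix.TransvectionStruct.toMatrix ⟨i, j, hij, c⟩) (X x)) ^ (p ^ e - 1) =
      ∏ x ∈ Finset.univ.erase i, (X x : MvPolynomial N S) ^ (p ^ e - 1) :=
    Finset.prod_congr rfl fun l hl => by rw [h1 l (Finset.ne_of_mem_erase hl)]
  rw [h3]
  -- (X i + c X j)^(q-1) = X i^(q-1) + (C c X j) * H
  obtain ⟨H, hH⟩ : (C c * X j : MvPolynomial N S) ∣ (X i + C c * X j) ^ (p ^ e - 1) -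
      X i ^ (p ^ e - 1) := by
    have := sub_dvd_pow_sub_pow (X i + C c * X j : MvPolynomial N S) (X i) (p ^ e - 1)
    simpa using this
  have h4 : (X i + C c * X j : MvPolynomial N S) ^ (p ^ e - 1) =
      X i ^ (p ^ e - 1) + C c * X j * H := by
    rw [← hH]; ring
  rw [h4, add_mul, Finset.mul_prod_erase _ (fun x => (X x : MvPolynomial N S) ^ (p ^ e - 1))
    (Finset.mem_univ i)]
  have h5 : C c * X j * H * ∏ x ∈ Finset.univ.erase i, (X x : MvPolynomial N S) ^ (p ^ e - 1) =
      (H * ∏ x ∈ (Finset.univ.erase i).erase j, (X x : MvPolynomial N S) ^ (p ^ e - 1)) *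
        (C c * X j ^ (p ^ e)) := by
    rw [← Finset.mul_prod_erase (Finset.univ.erase i) _
      (Finset.mem_erase.2 ⟨hij.symm, Finset.mem_univ j⟩)]
    have : (X j : MvPolynomial N S) ^ (p ^ e) = X j ^ (p ^ e - 1) * X j := by
      rw [← pow_succ]; congr 1; omega
    rw [this]
    ring
  have h6 : top (p ^ e - 1) (∏ x, (X x : MvPolynomial N S) ^ (p ^ e - 1) +
      C c * X j * H * ∏ x ∈ Finset.univ.erase i, (X x : MvPolynomial N S) ^ (p ^ e - 1)) =
      top (p ^ e - 1) (∏ x, (X x : MvPolynomial N S) ^ (p ^ e - 1)) +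
      top (p ^ e - 1) (C c * X j * H *
        ∏ x ∈ Finset.univ.erase i, (X x : MvPolynomial N S) ^ (p ^ e - 1)) := by
    simp [top]
  rw [h6, h5, top_mul_X_pow _ _ _ _ (by omega), add_zero]
  have h7 : (∏ i, (X i ^ (p ^ e - 1) : MvPolynomial N S)) = monomial (cst N (p ^ e - 1)) 1 := by
    rw [monomial_eq, Finsupp.prod_fintype _ _ (by simp)]
    simp
  rw [h7, top, coeff_monomial, if_pos rfl]

theorem D_field {L : Type*} [Field L] [CharP L p] (g : Matrix N N L) (hg : g.det ≠ 0) :
    D (p ^ e - 1) g = g.det ^ (p ^ e - 1) := by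
  refine Matrix.diagonal_transvection_induction_of_det_ne_zero
    (fun g => D (p ^ e - 1) g = g.det ^ (p ^ e - 1)) g hg ?_ ?_ ?_
  · intro d _
    rw [D_diagonal, Matrix.det_diagonal, Finset.prod_pow]
  · intro t
    rw [D_transvection, Matrix.TransvectionStruct.det, one_pow]
  · intro A B _ _ hA hB
    rw [D_mul, hA, hB, Matrix.det_mul, mul_pow, mul_comm]

omit [DecidableEq N] in
theorem map_lin {S T : Type*} [CommSemiring S] [CommSemiring T] (f : S →+* T) (g : Matrix N N S)
    (G : MvPolynomial N S) : map f (lin g G) = lin (g.map f) (map f G) := by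
  have : (map f).comp (lin g : MvPolynomial N S →ₐ[S] MvPolynomial N S).toRingHom =
      (lin (g.map f) : MvPolynomial N T →ₐ[T] MvPolynomial N T).toRingHom.comp (map f) := by
    refine MvPolynomial.ringHom_ext ?_ ?_
    · intro r; simp
    · intro i; simp [lin_X]
  exact DFunLike.congr_fun this G

omit [DecidableEq N] in
theorem map_top {S T : Type*} [CommSemiring S] [CommSemiring T] (f : S →+* T) (m : ℕ)
    (G : MvPolynomial N S) : f (top m G) = top m (map f G) := by
  simp [top, coeff_map]

omit [DecidableEq N] in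
theorem map_D {S T : Type*} [CommSemiring S] [CommSemiring T] (f : S →+* T) (m : ℕ)
    (g : Matrix N N S) : f (D m g) = D m (g.map f) := by
  rw [D, D, map_top, map_prod]
  simp only [map_pow, map_lin, map_X]

theorem D_eq {S : Type*} [CommRing S] [CharP S p] (g : Matrix N N S) :
    D (p ^ e - 1) g = g.det ^ (p ^ e - 1) := by
  -- generic matrix
  let P := MvPolynomial (N × N) (ZMod p)
  let L := FractionRing P
  have hinj : Function.Injective (algebraMap P L) := IsFractionRing.injective P L
  have : CharP P p := inferInstance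
  have : CharP L p := charP_of_injective_algebraMap hinj p
  let X0 : Matrix N N P := Matrix.mvPolynomialX N N (ZMod p)
  have h1 : D (p ^ e - 1) X0 = X0.det ^ (p ^ e - 1) := by
    apply hinj
    rw [map_D, map_pow, RingHom.map_det]
    refine D_field p e _ ?_
    rw [← RingHom.mapMatrix_apply, ← RingHom.map_det]
    intro h0
    exact Matrix.det_mvPolynomialX_ne_zero N (ZMod p) (hinj (by rw [map_zero]; exact h0))
  let φ : P →+* S := eval₂Hom (ZMod.castHom dvd_rfl S) fun x => g x.1 x.2
  have h2 : X0.map φ = g := by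
    ext i j
    change φ (X (i, j)) = g i j
    exact eval₂Hom_X' _ _ _
  have h3 := congrArg φ h1
  rwa [map_D, map_pow, RingHom.map_det, RingHom.mapMatrix_apply, h2] at h3

/-- The transformation law of the top coefficient. -/
theorem top_lin {S : Type*} [CommRing S] [CharP S p] (g : Matrix N N S) (G : MvPolynomial N S) :
    top (p ^ e - 1) (lin g G) = g.det ^ (p ^ e - 1) * top (p ^ e - 1) G := by
  rw [top_lin_aux, D_eq]

/-- The top coefficient of a product of powers of linear forms. -/
theorem top_prod_pow {S : Type*} [CommRing S] [CharP S p] (g : Matrix N N S) :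
    top (p ^ e - 1) (∏ i, (∑ j, C (g i j) * X j) ^ (p ^ e - 1)) = g.det ^ (p ^ e - 1) := by
  rw [← D_eq p e g, D]
  simp only [lin_X]

end K865.TopCoef
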