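import Mathlib
import Groth.Agent.ShStab.K865.TopCoef

/-!
# Geometric reductivity of `GL_n` in characteristic `p`: an explicit invariant

For `F` a polynomial in the entries of the generic matrix `x` (rows `x_0, …, x_m`) with coefficients
in any ring `S` of characteristic `p`, let `Φ_F` be the operator on polynomials `t(x_0, …, x_{m-1})`
of degree `D` given by: multiply by `F`, take the coefficient of `∏_i x_{0,i}^(q-1)`, rename.
`Jinv F = 1 - det(1 - Φ_F)`.  It is natural in `S`, invariant, zero for `F = 0` and one for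
`F = det^(q-1)`.
-/

set_option autoImplicit false

namespace K865.GeoRed

open MvPolynomial K865.TopCoef

variable (p e m : ℕ) [hp : Fact p.Prime]

section defs

variable {S : Type*} [CommRing S]

/-- rename rows by `castSucc` -/
noncomputable def lo : MvPolynomial (Fin m × Fin (m + 1)) S →ₐ[S]
    MvPolynomial (Fin (m + 1) × Fin (m + 1)) S :=
  aeval fun x => X (Fin.castSucc x.1, x.2)

/-- split off row zero -/
noncomputable def sp : MvPolynomial (Fin (m + 1) × Fin (m + 1)) S →ₐ[S]
    MvPolynomial (Fin (m + 1)) (MvPolynomial (Fin m × Fin (m + 1)) S) :=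
  aeval fun x => Fin.cases (motive := fun _ =>
    MvPolynomial (Fin (m + 1)) (MvPolynomial (Fin m × Fin (m + 1)) S))
    (X x.2) (fun j => C (X (j, x.2))) x.1

/-- right substitution `x ↦ x g` -/
noncomputable def rs {a b : ℕ} (g : Matrix (Fin b) (Fin b) S) :
    MvPolynomial (Fin a × Fin b) S →ₐ[S] MvPolynomial (Fin a × Fin b) S :=
  aeval fun x => ∑ l, C (g l x.2) * X (x.1, l)

theorem rs_X {a b : ℕ} (g : Matrix (Fin b) (Fin b) S) (x : Fin a × Fin b) :
    rs g (X x) = ∑ l, C (g l x.2) * X (x.1, l) := by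
  simp [rs]

theorem lo_X (x : Fin m × Fin (m + 1)) : lo m (X x : MvPolynomial _ S) =
    X (Fin.castSucc x.1, x.2) := by
  simp [lo]

theorem sp_X_zero (i : Fin (m + 1)) : sp m (X (0, i) : MvPolynomial _ S) = X i := by
  simp [sp]

theorem sp_X_succ (j : Fin m) (i : Fin (m + 1)) :
    sp m (X (j.succ, i) : MvPolynomial _ S) = C (X (j, i)) := by
  simp [sp]

theorem sp_C (c : S) : sp m (C c : MvPolynomial _ S) = C (C c) := by
  rw [sp, algHom_C]; rfl

theorem lo_rs (g : Matrix (Fin (m + 1)) (Fin (m + 1)) S)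
    (t : MvPolynomial (Fin m × Fin (m + 1)) S) : lo m (rs g t) = rs g (lo m t) := by
  have : (lo m).comp (rs g) = (rs g).comp (lo m (S := S)) := by
    ext x : 1
    simp only [AlgHom.comp_apply, rs_X, map_sum, map_mul, algHom_C, lo_X, algebraMap_eq]
  exact DFunLike.congr_fun this t

theorem rs_rs {a b : ℕ} (g h : Matrix (Fin b) (Fin b) S) (t : MvPolynomial (Fin a × Fin b) S) :
    rs g (rs h t) = rs (g * h) t := by
  have : (rs g).comp (rs h) = rs (a := a) (g * h) := by
    ext x : 1
    simp only [AlgHom.comp_apply, rs_X, map_sum, map_mul, algHom_C, algebraMap_eq,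
      Matrix.mul_apply, Finset.mul_sum, Finset.sum_mul]
    rw [Finset.sum_comm]
    refine Finset.sum_congr rfl fun j _ => Finset.sum_congr rfl fun l _ => by ring
  exact DFunLike.congr_fun this t

theorem rs_one {a b : ℕ} (t : MvPolynomial (Fin a × Fin b) S) :
    rs (1 : Matrix (Fin b) (Fin b) S) t = t := by
  have : rs (1 : Matrix (Fin b) (Fin b) S) = AlgHom.id S (MvPolynomial (Fin a × Fin b) S) := by
    ext x : 1
    rw [rs_X, Finset.sum_eq_single x.2]
    · simp
    · intro l _ hl
      rw [Matrix.one_apply_ne hl, C_0, zero_mul]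
    · intro h; exact absurd (Finset.mem_univ _) h
  exact DFunLike.congr_fun this t

/-- the top coefficient in row zero -/
noncomputable def top0 (k : ℕ) (F : MvPolynomial (Fin (m + 1) × Fin (m + 1)) S) :
    MvPolynomial (Fin m × Fin (m + 1)) S := top k (sp m F)

theorem sp_rs (g : Matrix (Fin (m + 1)) (Fin (m + 1)) S)
    (F : MvPolynomial (Fin (m + 1) × Fin (m + 1)) S) :
    sp m (rs g F) = lin ((g.map C).transpose) (map (rs g).toRingHom (sp m F)) := by
  have : (sp m).toRingHom.comp (rs g).toRingHom =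
      ((lin ((g.map (C (σ := Fin m × Fin (m + 1)))).transpose)).toRingHom.comp
        (map (rs g).toRingHom)).comp (sp m (S := S)).toRingHom := by
    refine MvPolynomial.ringHom_ext ?_ ?_
    · intro r
      simp [sp_C]
    · rintro ⟨j, i⟩
      refine Fin.cases ?_ (fun j => ?_) j
      · simp [rs_X, sp_C, sp_X_zero, lin_X]
      · simp [rs_X, sp_C, sp_X_succ, lin_X]
  exact DFunLike.congr_fun this F

theorem top0_rs [CharP S p] (g : Matrix (Fin (m + 1)) (Fin (m + 1)) S)
    (F : MvPolynomial (Fin (m + 1) × Fin (m + 1)) S) :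
    top0 m (p ^ e - 1) (rs g F) = C (g.det ^ (p ^ e - 1)) * rs g (top0 m (p ^ e - 1) F) := by
  rw [top0, top0, sp_rs, top_lin, ← TopCoef.map_top, Matrix.det_transpose, ← RingHom.mapMatrix_apply,
    ← RingHom.map_det, ← map_pow]
  rfl

/-- `Φ_F t` -/
noncomputable def Phi (F : MvPolynomial (Fin (m + 1) × Fin (m + 1)) S)
    (t : MvPolynomial (Fin m × Fin (m + 1)) S) : MvPolynomial (Fin m × Fin (m + 1)) S :=
  top0 m (p ^ e - 1) (F * lo m t)

theorem top0_add (k : ℕ) (F F' : MvPolynomial (Fin (m + 1) × Fin (m + 1)) S) :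
    top0 m k (F + F') = top0 m k F + top0 m k F' := by
  simp [top0, top]

theorem top0_C_mul (k : ℕ) (c : S) (F : MvPolynomial (Fin (m + 1) × Fin (m + 1)) S) :
    top0 m k (C c * F) = C c * top0 m k F := by
  simp [top0, top, sp_C]

theorem Phi_add (F : MvPolynomial (Fin (m + 1) × Fin (m + 1)) S)
    (t t' : MvPolynomial (Fin m × Fin (m + 1)) S) :
    Phi p e m F (t + t') = Phi p e m F t + Phi p e m F t' := by
  rw [Phi, map_add, mul_add, top0_add]; rfl

theorem Phi_C_mul (F : MvPolynomial (Fin (m + 1) × Fin (m + 1)) S) (c : S)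
    (t : MvPolynomial (Fin m × Fin (m + 1)) S) :
    Phi p e m F (C c * t) = C c * Phi p e m F t := by
  rw [Phi, map_mul, algHom_C, algebraMap_eq, mul_left_comm, top0_C_mul]; rfl

/-- `Φ_F` as a linear map -/
noncomputable def PhiL (F : MvPolynomial (Fin (m + 1) × Fin (m + 1)) S) :
    MvPolynomial (Fin m × Fin (m + 1)) S →ₗ[S] MvPolynomial (Fin m × Fin (m + 1)) S where
  toFun := Phi p e m F
  map_add' := Phi_add p e m F
  map_smul' c t := by
    rw [smul_eq_C_mul, Phi_C_mul, RingHom.id_apply, smul_eq_C_mul]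

theorem Phi_rs [CharP S p] (g : Matrix (Fin (m + 1)) (Fin (m + 1)) S)
    (F : MvPolynomial (Fin (m + 1) × Fin (m + 1)) S)
    (t : MvPolynomial (Fin m × Fin (m + 1)) S) :
    Phi p e m (rs g F) (rs g t) = C (g.det ^ (p ^ e - 1)) * rs g (Phi p e m F t) := by
  rw [Phi, lo_rs, ← map_mul, top0_rs]; rfl

end defs

section mat

variable {σ : Type*} [Fintype σ] [DecidableEq σ] {S : Type*} [CommRing S]

/-- exponents of degree `D` -/
abbrev Ex (σ : Type*) [Fintype σ] [DecidableEq σ] (D : ℕ) : Type _ :=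
  ↥(Finset.finsuppAntidiag (Finset.univ : Finset σ) D)

theorem mem_ex {D : ℕ} {s : σ →₀ ℕ} :
    s ∈ Finset.finsuppAntidiag (Finset.univ : Finset σ) D ↔ ∑ i, s i = D := by
  simp [Finset.mem_finsuppAntidiag]

theorem ex_of_coeff {D : ℕ} {t : MvPolynomial σ S} (ht : t.IsHomogeneous D) {s : σ →₀ ℕ}
    (hs : t.coeff s ≠ 0) : s ∈ Finset.finsuppAntidiag (Finset.univ : Finset σ) D := by
  rw [mem_ex, ← ht hs]
  simp [Finsupp.weight_apply, Finsupp.sum_fintype]

/-- the matrix of a linear map on degree `D` polynomials -/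
noncomputable def mat (D : ℕ) (L : MvPolynomial σ S →ₗ[S] MvPolynomial σ S) :
    Matrix (Ex σ D) (Ex σ D) S :=
  fun s s' => (L (monomial s'.1 1)).coeff s.1

theorem expand {D : ℕ} {t : MvPolynomial σ S} (ht : t.IsHomogeneous D) :
    t = ∑ s : Ex σ D, (t.coeff s.1) • monomial s.1 (1 : S) := by
  ext s
  rw [coeff_sum]
  simp only [coeff_smul, coeff_monomial, smul_eq_mul, mul_ite, mul_one, mul_zero]
  by_cases hs : s ∈ Finset.finsuppAntidiag (Finset.univ : Finset σ) D
  · rw [Finset.sum_eq_single ⟨s, hs⟩]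
    · simp
    · intro s' _ hs'
      rw [if_neg]
      intro h
      exact hs' (Subtype.ext h)
    · intro h; exact absurd (Finset.mem_univ _) h
  · rw [Finset.sum_eq_zero]
    · by_contra h
      exact hs (ex_of_coeff ht h)
    · intro s' _
      rw [if_neg]
      intro h
      exact hs (h ▸ s'.2)

theorem coeff_map_hom {D : ℕ} (L : MvPolynomial σ S →ₗ[S] MvPolynomial σ S)
    {t : MvPolynomial σ S} (ht : t.IsHomogeneous D) (s : Ex σ D) :
    (L t).coeff s.1 = ∑ s' : Ex σ D, mat D L s s' * t.coeff s'.1 := by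
  conv_lhs => rw [expand ht, map_sum, coeff_sum]
  refine Finset.sum_congr rfl fun s' _ => ?_
  rw [map_smul, coeff_smul, smul_eq_mul, mul_comm]
  rfl

theorem coeff_of_homMap {D : ℕ} (L : MvPolynomial σ S →ₗ[S] MvPolynomial σ S)
    (hL : ∀ s : σ →₀ ℕ, (L (monomial s 1)).IsHomogeneous (∑ i, s i))
    (t : MvPolynomial σ S) (s : Ex σ D) :
    (L t).coeff s.1 = ∑ s' : Ex σ D, mat D L s s' * t.coeff s'.1 := by
  have key : ∀ (u : σ →₀ ℕ) (c : S), (L (monomial u c)).coeff s.1 =
      ∑ s' : Ex σ D, mat D L s s' * (monomial u c).coeff s'.1 := by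
    intro u c
    have hc : (monomial u c : MvPolynomial σ S) = c • monomial u 1 := by
      rw [smul_monomial, smul_eq_mul, mul_one]
    by_cases hu : u ∈ Finset.finsuppAntidiag (Finset.univ : Finset σ) D
    · refine coeff_map_hom L ?_ s
      rw [hc]
      have := isHomogeneous_monomial (1 : S) (d := u) (n := D)
        (by rw [← mem_ex.1 hu]; simp [Finsupp.degree_eq_sum])
      rw [smul_eq_C_mul]
      simpa using (isHomogeneous_C σ c).mul this
    · rw [hc, map_smul, coeff_smul]
      have h1 : (L (monomial u 1)).coeff s.1 = 0 := by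
        by_contra h
        have h2 := ex_of_coeff (hL u) h
        rw [mem_ex] at h2
        have h3 := mem_ex.1 s.2
        exact hu (mem_ex.2 (by rw [← h2, h3]))
      rw [h1, smul_zero, Finset.sum_eq_zero]
      intro s' _
      rw [coeff_smul, coeff_monomial, if_neg, smul_zero, mul_zero]
      intro h
      exact hu (h ▸ s'.2)
  induction t using MvPolynomial.monomial_add_induction_on with
  | C a => exact key 0 a
  | monomial_add u c f _ _ hf =>
    rw [map_add, coeff_add, key, hf, ← Finset.sum_add_distrib]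
    refine Finset.sum_congr rfl fun s' _ => by rw [coeff_add, mul_add]

end mat

section hom

variable {S : Type*} [CommRing S]

theorem isHomogeneous_rs_X {a b : ℕ} (g : Matrix (Fin b) (Fin b) S) (x : Fin a × Fin b) :
    (rs g (X x : MvPolynomial _ S)).IsHomogeneous 1 := by
  rw [rs_X]
  refine IsHomogeneous.sum _ _ _ fun j _ => ?_
  simpa using (isHomogeneous_C _ (g j x.2)).mul (isHomogeneous_X _ (x.1, j))

theorem isHomogeneous_rs_monomial {a b : ℕ} (g : Matrix (Fin b) (Fin b) S)
    (s : Fin a × Fin b →₀ ℕ) (c : S) :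
    (rs g (monomial s c)).IsHomogeneous (∑ i, s i) := by
  rw [monomial_eq, map_mul, algHom_C, algebraMap_eq, Finsupp.prod_fintype _ _ (by simp), map_prod]
  simp only [map_pow]
  have := (isHomogeneous_C (Fin a × Fin b) c).mul (IsHomogeneous.prod Finset.univ
    (fun i => (rs g (X i : MvPolynomial _ S)) ^ s i) (fun i => 1 * s i)
    (fun i _ => (isHomogeneous_rs_X g i).pow (s i)))
  simpa using this

/-- the matrix of the substitution -/
noncomputable def Gm (D : ℕ) (a b : ℕ) (g : Matrix (Fin b) (Fin b) S) :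
    Matrix (Ex (Fin a × Fin b) D) (Ex (Fin a × Fin b) D) S :=
  mat D (rs g).toLinearMap

theorem Gm_mul (D a b : ℕ) (g h : Matrix (Fin b) (Fin b) S) :
    Gm D a b (g * h) = Gm D a b g * Gm D a b h := by
  ext s s'
  rw [Matrix.mul_apply, Gm, mat]
  simp only [AlgHom.toLinearMap_apply]
  rw [← rs_rs]
  have hom : (rs h (monomial s'.1 (1 : S))).IsHomogeneous D := by
    have := isHomogeneous_rs_monomial h s'.1 (1 : S)
    rwa [mem_ex.1 s'.2] at this
  exact coeff_map_hom (rs g).toLinearMap hom s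

theorem Gm_one (D a b : ℕ) : Gm D a b (1 : Matrix (Fin b) (Fin b) S) = 1 := by
  ext s s'
  simp only [Gm, mat, AlgHom.toLinearMap_apply, rs_one, coeff_monomial, Matrix.one_apply,
    Subtype.ext_iff]
  congr 1
  exact propext ⟨fun h => h.symm, fun h => h.symm⟩

/-- the matrix of `Φ_F` -/
noncomputable def MF (D : ℕ) (F : MvPolynomial (Fin (m + 1) × Fin (m + 1)) S) :
    Matrix (Ex (Fin m × Fin (m + 1)) D) (Ex (Fin m × Fin (m + 1)) D) S :=
  mat D (PhiL p e m F)

theorem MF_rs [CharP S p] (D : ℕ) (g : Matrix (Fin (m + 1)) (Fin (m + 1)) S)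
    (F : MvPolynomial (Fin (m + 1) × Fin (m + 1)) S) :
    MF p e m D (rs g F) * Gm D m (m + 1) g =
      g.det ^ (p ^ e - 1) • (Gm D m (m + 1) g * MF p e m D F) := by
  ext s s'
  rw [Matrix.mul_apply, Matrix.smul_apply, Matrix.mul_apply]
  have hom : (rs g (monomial s'.1 (1 : S))).IsHomogeneous D := by
    have := isHomogeneous_rs_monomial g s'.1 (1 : S)
    rwa [mem_ex.1 s'.2] at this
  have h1 := coeff_map_hom (PhiL p e m (rs g F)) hom s
  have h2 := coeff_of_homMap (D := D) (rs g).toLinearMap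
    (fun u => isHomogeneous_rs_monomial g u (1 : S)) (Phi p e m F (monomial s'.1 1)) s
  have h3 : (PhiL p e m (rs g F)) (rs g (monomial s'.1 (1 : S))) =
      C (g.det ^ (p ^ e - 1)) * rs g (Phi p e m F (monomial s'.1 1)) := Phi_rs p e m g F _
  rw [h3, coeff_C_mul] at h1
  rw [AlgHom.toLinearMap_apply] at h2
  rw [smul_eq_mul]
  refine h1.symm.trans ?_
  rw [h2]
  rfl

theorem top0_smul (k : ℕ) (c : S) (F : MvPolynomial (Fin (m + 1) × Fin (m + 1)) S) :
    top0 m k (c • F) = c • top0 m k F := by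
  rw [smul_eq_C_mul, top0_C_mul, smul_eq_C_mul]

theorem MF_smul (D : ℕ) (c : S) (F : MvPolynomial (Fin (m + 1) × Fin (m + 1)) S) :
    MF p e m D (c • F) = c • MF p e m D F := by
  ext s s'
  change (Phi p e m (c • F) _).coeff _ = c * (Phi p e m F _).coeff _
  rw [Phi, smul_mul_assoc, top0_smul, coeff_smul, smul_eq_mul]
  rfl

/-- `1 - det(1 - Φ_F)` -/
noncomputable def Jinv (D : ℕ) (F : MvPolynomial (Fin (m + 1) × Fin (m + 1)) S) : S :=
  1 - (1 - MF p e m D F).det

/-- invariance -/
theorem Jinv_rs [CharP S p] (D : ℕ) (g g' : Matrix (Fin (m + 1)) (Fin (m + 1)) S)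
    (hg : g * g' = 1) (c : S) (hc : c * g.det ^ (p ^ e - 1) = 1)
    (F : MvPolynomial (Fin (m + 1) × Fin (m + 1)) S) :
    Jinv p e m D (c • rs g F) = Jinv p e m D F := by
  have h1 : Gm D m (m + 1) g * Gm D m (m + 1) g' = 1 := by rw [← Gm_mul, hg, Gm_one]
  have h2 : MF p e m D (c • rs g F) =
      Gm D m (m + 1) g * MF p e m D F * Gm D m (m + 1) g' := by
    calc MF p e m D (c • rs g F) = MF p e m D (c • rs g F) * (Gm D m (m + 1) g *
        Gm D m (m + 1) g') := by rw [h1, mul_one]
      _ = c • (MF p e m D (rs g F) * Gm D m (m + 1) g) * Gm D m (m + 1) g' := by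
        rw [MF_smul, ← mul_assoc, smul_mul_assoc]
      _ = _ := by rw [MF_rs, smul_smul, hc, one_smul]
  have h3 : (1 - MF p e m D (c • rs g F)) =
      Gm D m (m + 1) g * (1 - MF p e m D F) * Gm D m (m + 1) g' := by
    rw [h2, mul_sub, sub_mul, mul_one, h1]
  have h4 : (Gm D m (m + 1) g).det * (Gm D m (m + 1) g').det = 1 := by
    rw [← Matrix.det_mul, h1, Matrix.det_one]
  rw [Jinv, Jinv, h3, Matrix.det_mul, Matrix.det_mul, mul_right_comm, h4, one_mul]

theorem Jinv_zero (D : ℕ) :
    Jinv p e m D (0 : MvPolynomial (Fin (m + 1) × Fin (m + 1)) S) = 0 := by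
  have : MF p e m D (0 : MvPolynomial (Fin (m + 1) × Fin (m + 1)) S) = 0 := by
    have := MF_smul p e m D (0 : S) (0 : MvPolynomial (Fin (m + 1) × Fin (m + 1)) S)
    rwa [zero_smul, zero_smul] at this
  rw [Jinv, this, sub_zero, Matrix.det_one, sub_self]

end hom

section map

variable {S T : Type*} [CommRing S] [CommRing T] (f : S →+* T)

theorem map_lo (t : MvPolynomial (Fin m × Fin (m + 1)) S) :
    map f (lo m t) = lo m (map f t) := by
  have : (map f).comp (lo m (S := S)).toRingHom =
      (lo m (S := T)).toRingHom.comp (map f) := by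
    refine MvPolynomial.ringHom_ext ?_ ?_
    · intro r; simp
    · intro i; simp [lo_X]
  exact DFunLike.congr_fun this t

theorem map_sp (F : MvPolynomial (Fin (m + 1) × Fin (m + 1)) S) :
    map (map f) (sp m F) = sp m (map f F) := by
  have : (map (map f)).comp (sp m (S := S)).toRingHom =
      (sp m (S := T)).toRingHom.comp (map f) := by
    refine MvPolynomial.ringHom_ext ?_ ?_
    · intro r; simp
    · rintro ⟨j, i⟩
      refine Fin.cases ?_ (fun j => ?_) j
      · simp [sp_X_zero]
      · simp [sp_X_succ]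
  exact DFunLike.congr_fun this F

theorem map_Phi (F : MvPolynomial (Fin (m + 1) × Fin (m + 1)) S)
    (t : MvPolynomial (Fin m × Fin (m + 1)) S) :
    map f (Phi p e m F t) = Phi p e m (map f F) (map f t) := by
  rw [Phi, Phi, top0, top0, TopCoef.map_top, map_sp, map_mul, map_lo]

theorem map_MF (D : ℕ) (F : MvPolynomial (Fin (m + 1) × Fin (m + 1)) S) :
    (MF p e m D F).map f = MF p e m D (map f F) := by
  ext s s'
  change f ((Phi p e m F (monomial s'.1 1)).coeff s.1) =
    (Phi p e m (map f F) (monomial s'.1 1)).coeff s.1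
  rw [← coeff_map, map_Phi, map_monomial, map_one]

theorem map_Jinv (D : ℕ) (F : MvPolynomial (Fin (m + 1) × Fin (m + 1)) S) :
    f (Jinv p e m D F) = Jinv p e m D (map f F) := by
  rw [Jinv, Jinv, map_sub, map_one, RingHom.map_det, map_sub, map_one, RingHom.mapMatrix_apply,
    map_MF]

end map

end K865.GeoRed
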