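import Mathlib
import Groth.Agent.ShStab.K865.GeoRed

/-!
# The fixed vector: `Jinv (det^(q-1)) = 1`
-/

set_option autoImplicit false

namespace K865.GeoRed

open MvPolynomial K865.TopCoef

variable (p e m : ℕ) [hp : Fact p.Prime]

/-- initial minors -/
def mnr {a b : ℕ} {S : Type*} [CommRing S] (y : Matrix (Fin a) (Fin b) S) (k : ℕ) (ha : k ≤ a)
    (hb : k ≤ b) : S := (y.submatrix (Fin.castLE ha) (Fin.castLE hb)).det

theorem map_mnr {a b : ℕ} {S T : Type*} [CommRing S] [CommRing T] (f : S →+* T)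
    (y : Matrix (Fin a) (Fin b) S) (k : ℕ) (ha : k ≤ a) (hb : k ≤ b) :
    f (mnr y k ha hb) = mnr (y.map f) k ha hb := by
  rw [mnr, RingHom.map_det]; rfl

/-- generic matrix -/
noncomputable def gen (a b : ℕ) (S : Type*) [CommRing S] :
    Matrix (Fin a) (Fin b) (MvPolynomial (Fin a × Fin b) S) := fun i j => X (i, j)

section

variable (S : Type*) [CommRing S]

/-- the fixed polynomial -/
noncomputable def t0 : MvPolynomial (Fin m × Fin (m + 1)) S :=
  ∏ j : Fin m, (mnr (gen m (m + 1) S) (j.val + 1) j.2 (by omega)) ^ (p ^ e - 1)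

theorem lo_mnr (k : ℕ) (ha : k ≤ m) (hb : k ≤ m + 1) :
    lo m (mnr (gen m (m + 1) S) k ha hb) = mnr (gen (m + 1) (m + 1) S) k (by omega) hb := by
  have := map_mnr (lo m (S := S)).toRingHom (gen m (m + 1) S) k ha hb
  refine this.trans ?_
  rw [mnr, mnr]
  congr 1
  refine Matrix.ext fun i j => ?_
  simp only [Matrix.submatrix_apply, Matrix.map_apply, gen]
  exact lo_X (S := S) m _

theorem prod_eq : (gen (m + 1) (m + 1) S).det ^ (p ^ e - 1) * lo m (t0 p e m S) =
    ∏ j : Fin (m + 1), (mnr (gen (m + 1) (m + 1) S) (j.val + 1) j.2 j.2) ^ (p ^ e - 1) := by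
  rw [Fin.prod_univ_castSucc, mul_comm, t0, map_prod]
  congr 1
  refine Finset.prod_congr rfl fun j _ => ?_
  rw [map_pow, lo_mnr]
  rfl

/-- coefficients of `X i` in the minors -/
noncomputable def gm : Matrix (Fin (m + 1)) (Fin (m + 1)) (MvPolynomial (Fin m × Fin (m + 1)) S) :=
  fun j i => if h : i.val ≤ j.val then
    (-1) ^ i.val * ((gen m (m + 1) S).submatrix (Fin.castLE (by omega : j.val ≤ m))
      (fun a : Fin j.val => Fin.castLE (by omega : j.val + 1 ≤ m + 1)
        ((⟨i.val, by omega⟩ : Fin (j.val + 1)).succAbove a))).det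
  else 0

theorem sp_mnr (j : Fin (m + 1)) :
    sp m (mnr (gen (m + 1) (m + 1) S) (j.val + 1) j.2 j.2) = ∑ i, C (gm m S j i) * X i := by
  have h1 := map_mnr (sp m (S := S)).toRingHom (gen (m + 1) (m + 1) S) (j.val + 1) j.2 j.2
  refine h1.trans ?_
  rw [mnr, Matrix.det_succ_row_zero]
  refine Finset.sum_of_injOn (Fin.castLE (by omega : j.val + 1 ≤ m + 1)) ?_ ?_ ?_ ?_
  · exact fun a _ b _ h => Fin.castLE_injective _ h
  · exact fun a _ => Finset.mem_coe.2 (Finset.mem_univ _)
  · intro i _ hi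
    have : ¬ i.val ≤ j.val := by
      intro h
      exact hi ⟨⟨i.val, by omega⟩, Finset.mem_coe.2 (Finset.mem_univ _), Fin.ext rfl⟩
    rw [gm, dif_neg this, C_0, zero_mul]
  · intro i _
    have hi : (Fin.castLE (by omega : j.val + 1 ≤ m + 1) i).val ≤ j.val := by
      have := i.2
      simp only [Fin.val_castLE]
      omega
    rw [gm, dif_pos hi, map_mul, map_pow, map_neg, map_one]
    have h2 : ((gen (m + 1) (m + 1) S).map (sp m (S := S)).toRingHom).submatrix
        (Fin.castLE j.2) (Fin.castLE j.2) 0 i =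
        X (Fin.castLE (by omega : j.val + 1 ≤ m + 1) i) := by
      rw [Matrix.submatrix_apply, Matrix.map_apply, gen]
      exact sp_X_zero (S := S) m _
    have h3 : ((((gen (m + 1) (m + 1) S).map (sp m (S := S)).toRingHom).submatrix
        (Fin.castLE j.2) (Fin.castLE j.2)).submatrix Fin.succ i.succAbove) =
        ((gen m (m + 1) S).submatrix (Fin.castLE (by omega : j.val ≤ m))
      (fun a : Fin j.val => Fin.castLE (by omega : j.val + 1 ≤ m + 1)
        (i.succAbove a))).map C := by
      refine Matrix.ext fun a b => ?_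
      simp only [Matrix.submatrix_apply, Matrix.map_apply, gen]
      have h4 : Fin.castLE j.2 a.succ = (Fin.castLE (by omega : j.val ≤ m) a).succ :=
        Fin.ext (by simp)
      rw [h4]
      exact sp_X_succ (S := S) m (Fin.castLE (by omega : j.val ≤ m) a)
        (Fin.castLE j.2 (i.succAbove b))
    rw [h2, h3, ← RingHom.mapMatrix_apply, ← RingHom.map_det]
    simp only [Fin.val_castLE, Fin.eta]
    ring

theorem det_gm : (gm m S).det = ∏ j : Fin (m + 1),
    ((-1) ^ j.val * mnr (gen m (m + 1) S) j.val (by omega) (by omega)) := by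
  rw [Matrix.det_of_isLowerTriangular]
  · refine Finset.prod_congr rfl fun j _ => ?_
    rw [gm, dif_pos le_rfl]
    congr 2
    refine Matrix.ext fun a b => ?_
    simp only [Matrix.submatrix_apply]
    refine congrArg (gen m (m + 1) S _) (Fin.ext ?_)
    simp only [Fin.val_castLE]
    rw [show (⟨j.val, by omega⟩ : Fin (j.val + 1)) = Fin.last j.val from rfl,
      Fin.succAbove_last]
    rfl
  · intro j i hij
    rw [gm, dif_neg]
    simp only [OrderDual.toDual_lt_toDual] at hij
    have : j.val < i.val := hij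
    omega

theorem neg_one_pow_q [CharP S p] : ((-1 : S)) ^ (p ^ e - 1) = 1 := by
  have h0 : 0 < p ^ e := pow_pos hp.out.pos e
  have h1 : (-1 : S) ^ (p ^ e) = -1 := by
    have := ExpChar.prime (R := S) hp.out
    have := neg_one_pow_expChar_pow S p e
    exact this
  have h2 : (-1 : S) ^ (p ^ e - 1) * (-1) = -1 := by
    rw [← pow_succ, Nat.sub_add_cancel h0, h1]
  have := congrArg (fun x => x * (-1 : S)) h2
  simpa [mul_assoc] using this

theorem Phi_t0 [CharP S p] :
    Phi p e m ((gen (m + 1) (m + 1) S).det ^ (p ^ e - 1)) (t0 p e m S) = t0 p e m S := by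
  rw [Phi, prod_eq, top0, map_prod]
  simp only [map_pow, sp_mnr]
  rw [top_prod_pow p e (gm m S), det_gm, ← Finset.prod_pow]
  simp only [mul_pow]
  have h1 : ∀ j : Fin (m + 1),
      (((-1 : MvPolynomial (Fin m × Fin (m + 1)) S) ^ j.val) ^ (p ^ e - 1)) = 1 := by
    intro j
    rw [← pow_mul, mul_comm, pow_mul, neg_one_pow_q p e, one_pow]
  simp only [h1, one_mul]
  rw [Fin.prod_univ_succ]
  have h2 : ∀ (k : ℕ) (_ : k = 0) (ha : k ≤ m) (hb : k ≤ m + 1),
      mnr (gen m (m + 1) S) k ha hb = 1 := by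
    rintro _ rfl ha hb
    exact Matrix.det_fin_zero
  rw [h2 _ (by simp), one_pow, one_mul]
  rfl

theorem isHomogeneous_mnr (k : ℕ) (ha : k ≤ m) (hb : k ≤ m + 1) :
    (mnr (gen m (m + 1) S) k ha hb).IsHomogeneous k := by
  rw [mnr, Matrix.det_apply]
  refine IsHomogeneous.sum _ _ _ fun σ _ => ?_
  have h1 : (∏ i : Fin k, ((gen m (m + 1) S).submatrix (Fin.castLE ha) (Fin.castLE hb))
      (σ i) i).IsHomogeneous (∑ _i : Fin k, 1) :=
    IsHomogeneous.prod _ _ _ fun i _ => isHomogeneous_X _ _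
  have h2 : ∑ _i : Fin k, 1 = k := by simp
  rw [h2] at h1
  rcases Int.units_eq_one_or (Equiv.Perm.sign σ) with h | h
  · rw [h, one_smul]; exact h1
  · rw [h, Units.neg_smul, one_smul]; exact h1.neg

/-- the degree of `t0` -/
def D0 : ℕ := ∑ j : Fin m, (j.val + 1) * (p ^ e - 1)

theorem isHomogeneous_t0 : (t0 p e m S).IsHomogeneous (D0 p e m) :=
  IsHomogeneous.prod _ _ _ fun _ _ => (isHomogeneous_mnr m S _ _ _).pow _

theorem t0_ne_zero [Nontrivial S] : t0 p e m S ≠ 0 := by
  intro h
  let φ : MvPolynomial (Fin m × Fin (m + 1)) S →+* S :=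
    eval fun x => if x.1.val = x.2.val then 1 else 0
  have h1 : ∀ k (ha : k ≤ m) (hb : k ≤ m + 1), φ (mnr (gen m (m + 1) S) k ha hb) = 1 := by
    intro k ha hb
    rw [map_mnr, mnr]
    have : (((gen m (m + 1) S).map φ).submatrix (Fin.castLE ha) (Fin.castLE hb)) = 1 := by
      ext i j
      simp only [Matrix.submatrix_apply, Matrix.map_apply, gen, φ, eval_X, Fin.val_castLE,
        Matrix.one_apply, Fin.ext_iff]
    rw [this, Matrix.det_one]
  have h2 := congrArg φ h
  rw [t0, map_prod, map_zero] at h2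
  simp only [map_pow, h1, one_pow, Finset.prod_const_one] at h2
  exact one_ne_zero h2

theorem Jinv_det_domain [IsDomain S] [CharP S p] :
    Jinv p e m (D0 p e m) ((gen (m + 1) (m + 1) S).det ^ (p ^ e - 1)) = 1 := by
  have hM : (1 - MF p e m (D0 p e m) ((gen (m + 1) (m + 1) S).det ^ (p ^ e - 1))).det = 0 := by
    rw [← Matrix.exists_mulVec_eq_zero_iff]
    refine ⟨fun s => (t0 p e m S).coeff s.1, ?_, ?_⟩
    · intro h0
      apply t0_ne_zero p e m S
      rw [expand (isHomogeneous_t0 p e m S)]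
      refine Finset.sum_eq_zero fun s _ => ?_
      have := congrFun h0 s
      simp only [Pi.zero_apply] at this
      rw [this, zero_smul]
    · rw [Matrix.sub_mulVec, Matrix.one_mulVec, sub_eq_zero]
      funext s
      have := coeff_map_hom (PhiL p e m ((gen (m + 1) (m + 1) S).det ^ (p ^ e - 1)))
        (isHomogeneous_t0 p e m S) s
      have h2 : (PhiL p e m ((gen (m + 1) (m + 1) S).det ^ (p ^ e - 1))) (t0 p e m S) =
        t0 p e m S := Phi_t0 p e m S
      rw [h2] at this
      exact this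
  rw [Jinv, hM, sub_zero]

end

theorem Jinv_det (S : Type*) [CommRing S] [CharP S p] :
    Jinv p e m (D0 p e m) ((gen (m + 1) (m + 1) S).det ^ (p ^ e - 1)) = 1 := by
  have h1 := congrArg (ZMod.castHom dvd_rfl S) (Jinv_det_domain p e m (ZMod p))
  rw [map_Jinv, map_one, map_pow, RingHom.map_det] at h1
  have h2 : (map (ZMod.castHom dvd_rfl S)).mapMatrix (gen (m + 1) (m + 1) (ZMod p)) =
      gen (m + 1) (m + 1) S := by
    ext i j : 2
    simp [gen]
  rwa [h2] at h1

end K865.GeoRed
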