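import Mathlib
import Groth.Agent.ShStab.K865.ExPoly
import Groth.Agent.ShStab.K865.GeoRed2

/-!
# Iteration of the geometric reductivity over the blocks
-/

set_option autoImplicit false

namespace K865.GeoIter

open K865.TenAct K865.Asm K865.ValUnit K865.ExPoly K865.GeoRed MvPolynomial
open scoped BigOperators

variable {R A B : Type*} [Fintype R] [DecidableEq R] [Fintype A] [DecidableEq A] [DecidableEq B]

section tr

variable {k : Type*} [Field k]

/-- the action on points of `U × A¹` -/
noncomputable def Tr (b : R → B) (w : B → ℕ) (h : Matrix R R k) (π : Option (A → R) → k) :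
    Option (A → R) → k :=
  fun o => o.elim ((chi b w h)⁻¹ * π none) (act h fun J => π (some J))

omit [DecidableEq A] in
theorem Tr_one (b : R → B) (w : B → ℕ) (π : Option (A → R) → k) :
    Tr b w (1 : Matrix R R k) π = π := by
  classical
  funext o
  cases o with
  | none => simp [Tr, chi_one]
  | some J => simp [Tr, act_one]

omit [DecidableEq A] in
theorem Tr_mul (b : R → B) (w : B → ℕ) (g h : Matrix R R k) (hh : IsBlk b h)
    (π : Option (A → R) → k) : Tr b w (g * h) π = Tr b w g (Tr b w h π) := by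
  funext o
  cases o with
  | none =>
    change (chi b w (g * h))⁻¹ * π none = (chi b w g)⁻¹ * ((chi b w h)⁻¹ * π none)
    rw [chi_mul w hh, mul_inv, mul_assoc]
  | some J =>
    change act (g * h) (fun J => π (some J)) J = act g (act h fun J => π (some J)) J
    rw [act_mul]

end tr

theorem eq_of_eval_det {k : Type*} [Field k] [Infinite k] {n : ℕ}
    {F G : MvPolynomial (Fin n × Fin n) k}
    (h : ∀ x : Matrix (Fin n) (Fin n) k, x.det ≠ 0 →
      eval (fun y => x y.1 y.2) F = eval (fun y => x y.1 y.2) G) : F = G := by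
  have h0 : (gen n n k).det ≠ 0 := by
    intro h0
    have h1 := congrArg (eval fun y : Fin n × Fin n => (1 : Matrix (Fin n) (Fin n) k) y.1 y.2) h0
    rw [RingHom.map_det, map_zero] at h1
    have h2 : (eval fun y : Fin n × Fin n => (1 : Matrix (Fin n) (Fin n) k) y.1 y.2).mapMatrix
        (gen n n k) = 1 := by
      refine Matrix.ext fun i j => ?_
      simp [gen]
    rw [h2, Matrix.det_one] at h1
    exact one_ne_zero h1
  have h1 : (F - G) * (gen n n k).det = 0 := by
    apply MvPolynomial.funext
    intro y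
    rw [map_mul, map_sub, map_zero, RingHom.map_det]
    by_cases hy : (Matrix.of fun i j => y (i, j)).det = 0
    · have h2 : (eval y).mapMatrix (gen n n k) = Matrix.of fun i j => y (i, j) := by
        refine Matrix.ext fun i j => ?_
        simp [gen]
      rw [h2, hy, mul_zero]
    · have := h (Matrix.of fun i j => y (i, j)) hy
      simp only [Matrix.of_apply, Prod.mk.eta] at this
      rw [this, sub_self, zero_mul]
  rcases mul_eq_zero.1 h1 with h2 | h2
  · exact sub_eq_zero.1 h2
  · exact absurd h2 h0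

section step

variable {k : Type*} [Field k] [Infinite k]

/-- embedding of matrices indexed by `Fin n` as a block -/
def exf {S : Type*} [CommRing S] (b : R → B) (β : B) {n : ℕ} (ε : {i // b i = β} ≃ Fin n)
    (x : Matrix (Fin n) (Fin n) S) : Matrix R R S := ext b β (x.submatrix ε ε)

omit [Fintype R] in
theorem exf_map {S S' : Type*} [CommRing S] [CommRing S'] (f : S →+* S') (b : R → B) (β : B)
    {n : ℕ} (ε : {i // b i = β} ≃ Fin n) (x : Matrix (Fin n) (Fin n) S) :
    (exf b β ε x).map f = exf b β ε (x.map f) := by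
  classical
  refine Matrix.ext fun i j => ?_
  rw [Matrix.map_apply, exf, exf, Asm.ext, Asm.ext, asm, asm]
  by_cases hij : b i = b j
  · rw [dif_pos hij, dif_pos hij]
    by_cases h : b j = β
    · subst h; simp [one1]
    · simp [one1, Function.update_of_ne h, Matrix.one_apply, apply_ite f]
  · rw [dif_neg hij, dif_neg hij, map_zero]

omit [Fintype R] in
theorem isBlk_exf {S : Type*} [CommRing S] (b : R → B) (β : B) {n : ℕ}
    (ε : {i // b i = β} ≃ Fin n) (x : Matrix (Fin n) (Fin n) S) : IsBlk b (exf b β ε x) :=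
  isBlk_ext b β _

theorem exf_mul {S : Type*} [CommRing S] (b : R → B) (β : B) {n : ℕ}
    (ε : {i // b i = β} ≃ Fin n) (x y : Matrix (Fin n) (Fin n) S) :
    exf b β ε (x * y) = exf b β ε x * exf b β ε y := by
  rw [exf, exf, exf, ext_mul, Matrix.submatrix_mul_equiv]

theorem chi_exf {S : Type*} [CommRing S] (b : R → B) (w : B → ℕ) (β : B)
    (hβ : β ∈ Finset.univ.image b) {n : ℕ} (ε : {i // b i = β} ≃ Fin n)
    (x : Matrix (Fin n) (Fin n) S) : chi b w (exf b β ε x) = x.det ^ w β := by
  rw [exf, chi_ext b w β hβ, Matrix.det_submatrix_equiv_self]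

/-- the polynomial `x ↦ det(x)^K P(x · π)` -/
noncomputable def FP (b : R → B) (w : B → ℕ) (β : B) {n : ℕ} (ε : {i // b i = β} ≃ Fin n) (K : ℕ)
    (P : MvPolynomial (Option (A → R)) k) :
    MvPolynomial (Fin n × Fin n) (MvPolynomial (Option (A → R)) k) :=
  ∑ s ∈ P.support, C (C (P.coeff s)) * (gen n n _).det ^ (K - w β * s none) *
    C (X none) ^ s none * ∏ J, (act (exf b β ε (gen n n _)) (fun J => C (X (some J))) J) ^ s (some J)

omit [Infinite k] in
theorem eval_FP (b : R → B) (w : B → ℕ) (β : B) (hβ : β ∈ Finset.univ.image b) {n : ℕ}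
    (ε : {i // b i = β} ≃ Fin n) (K : ℕ)
    (P : MvPolynomial (Option (A → R)) k) (hK : ∀ s ∈ P.support, w β * s none ≤ K)
    (π : Option (A → R) → k) (x : Matrix (Fin n) (Fin n) k) (hx : x.det ≠ 0) :
    eval (fun y => x y.1 y.2) (map (eval π) (FP b w β ε K P)) =
      x.det ^ K * eval (Tr b w (exf b β ε x) π) P := by
  let Ψ : MvPolynomial (Fin n × Fin n) (MvPolynomial (Option (A → R)) k) →+* k :=
    (eval fun y => x y.1 y.2).comp (map (eval π))
  have hΨC : ∀ c, Ψ (C c) = eval π c := by intro c; simp [Ψ]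
  have hΨg : (gen n n (MvPolynomial (Option (A → R)) k)).map Ψ = x := by
    refine Matrix.ext fun i j => ?_
    simp [Ψ, gen]
  have hΨd : Ψ (gen n n (MvPolynomial (Option (A → R)) k)).det = x.det := by
    rw [RingHom.map_det, RingHom.mapMatrix_apply, hΨg]
  have hΨa : ∀ J, Ψ (act (exf b β ε (gen n n _)) (fun J => C (X (some J))) J) =
      act (exf b β ε x) (fun J => π (some J)) J := by
    intro J
    rw [map_act_apply, exf_map, hΨg]
    have : (fun J' => Ψ (C (X (some J')))) = fun J' : A → R => π (some J') := by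
      funext J'
      rw [hΨC, eval_X]
    rw [this]
  change Ψ (FP b w β ε K P) = _
  rw [FP, map_sum, eval_eq' (Tr b w (exf b β ε x) π) P, Finset.mul_sum]
  refine Finset.sum_congr rfl fun s hs => ?_
  rw [map_mul, map_mul, map_mul, map_pow, map_pow, map_prod, hΨC, hΨC, hΨd, eval_C, eval_X]
  simp only [map_pow, hΨa]
  rw [Fintype.prod_option]
  have h1 : Tr b w (exf b β ε x) π none = (x.det ^ w β)⁻¹ * π none := by
    change (chi b w (exf b β ε x))⁻¹ * π none = _
    rw [chi_exf b w β hβ]
  have h2 : x.det ^ K = x.det ^ (K - w β * s none) * (x.det ^ w β) ^ s none := by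
    rw [← pow_mul, ← pow_add, Nat.sub_add_cancel (hK s hs)]
  have h3 : (x.det ^ w β) ≠ 0 := pow_ne_zero _ hx
  rw [h1, mul_pow, inv_pow, h2]
  have h4 : (x.det ^ w β) ^ s none ≠ 0 := pow_ne_zero _ h3
  change _ = _ * (P.coeff s * (_ * ∏ J, (act (exf b β ε x) (fun J => π (some J)) J) ^ s (some J)))
  field_simp

/-- One step. -/
theorem step (p : ℕ) [hp : Fact p.Prime] [CharP k p] (b : R → B) (w : B → ℕ) (u : (A → R) → k) (β : B) (hβ : β ∈ Finset.univ.image b)
    (T : Finset B) (hβT : β ∉ T) (P : MvPolynomial (Option (A → R)) k)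
    (h1 : ∀ π : Option (A → R) → k, π none = 0 → eval π P = 0)
    (h2 : ∀ h : Matrix R R k, IsBlk b h → IsUnit h.det →
      eval (Tr b w h fun o => o.elim 1 u) P = 1)
    (h3 : ∀ γ ∈ T, ∀ y : Matrix {i // b i = γ} {i // b i = γ} k, IsUnit y.det →
      ∀ π, eval (Tr b w (ext b γ y) π) P = eval π P) :
    ∃ P' : MvPolynomial (Option (A → R)) k,
      (∀ π : Option (A → R) → k, π none = 0 → eval π P' = 0) ∧
      (∀ h : Matrix R R k, IsBlk b h → IsUnit h.det →
        eval (Tr b w h fun o => o.elim 1 u) P' = 1) ∧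
      (∀ γ ∈ insert β T, ∀ y : Matrix {i // b i = γ} {i // b i = γ} k, IsUnit y.det →
        ∀ π, eval (Tr b w (ext b γ y) π) P' = eval π P') := by
  classical
  -- the size of the block
  obtain ⟨m, hm⟩ : ∃ m, Fintype.card {i // b i = β} = m + 1 := by
    obtain ⟨i, _, hi⟩ := Finset.mem_image.1 hβ
    have : 0 < Fintype.card {i // b i = β} := Fintype.card_pos_iff.2 ⟨⟨i, hi⟩⟩
    exact ⟨Fintype.card {i // b i = β} - 1, by omega⟩
  let ε : {i // b i = β} ≃ Fin (m + 1) := Fintype.equivFinOfCardEq hm
  -- the exponent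
  obtain ⟨e, he⟩ : ∃ e, ∀ s ∈ P.support, w β * s none ≤ p ^ e - 1 := by
    refine ⟨P.support.sup fun s => w β * s none, fun s hs => ?_⟩
    have h4 : w β * s none ≤ P.support.sup fun s => w β * s none :=
      Finset.le_sup (f := fun s => w β * s none) hs
    have h5 := Nat.lt_pow_self (n := P.support.sup fun s => w β * s none) hp.out.one_lt
    omega
  have hev : ∀ (π : Option (A → R) → k) (x : Matrix (Fin (m + 1)) (Fin (m + 1)) k), x.det ≠ 0 →
      eval (fun y => x y.1 y.2) (map (eval π) (FP b w β ε (p ^ e - 1) P)) =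
        x.det ^ (p ^ e - 1) * eval (Tr b w (exf b β ε x) π) P := fun π x hx =>
    eval_FP b w β hβ ε (p ^ e - 1) P he π x hx
  have hJ : ∀ π : Option (A → R) → k,
      eval π (Jinv p e m (D0 p e m) (FP b w β ε (p ^ e - 1) P)) =
      Jinv p e m (D0 p e m) (map (eval π) (FP b w β ε (p ^ e - 1) P)) := fun π => map_Jinv ..
  have hgen : ∀ x : Matrix (Fin (m + 1)) (Fin (m + 1)) k,
      eval (fun y => x y.1 y.2) (gen (m + 1) (m + 1) k).det = x.det := by
    intro x
    rw [RingHom.map_det]
    congr 1
    refine Matrix.ext fun i j => ?_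
    simp [gen]
  have hunit : ∀ x : Matrix (Fin (m + 1)) (Fin (m + 1)) k, x.det ≠ 0 →
      IsUnit (exf b β ε x).det := by
    intro x hx
    refine isUnit_det_ext b β _ ?_
    rw [Matrix.det_submatrix_equiv_self]
    exact isUnit_iff_ne_zero.2 hx
  refine ⟨Jinv p e m (D0 p e m) (FP b w β ε (p ^ e - 1) P), ?_, ?_, ?_⟩
  · intro π hπ
    have : map (eval π) (FP b w β ε (p ^ e - 1) P) = 0 := by
      refine eq_of_eval_det fun x hx => ?_
      rw [hev π x hx, h1, mul_zero, map_zero]
      change (chi b w (exf b β ε x))⁻¹ * π none = 0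
      rw [hπ, mul_zero]
    rw [hJ, this, Jinv_zero]
  · intro h hh hu
    have : map (eval (Tr b w h fun o => o.elim 1 u)) (FP b w β ε (p ^ e - 1) P) =
        (gen (m + 1) (m + 1) k).det ^ (p ^ e - 1) := by
      refine eq_of_eval_det fun x hx => ?_
      rw [hev _ x hx, ← Tr_mul b w _ _ hh, h2 (exf b β ε x * h) ((isBlk_exf b β ε x).mul hh)
        (by rw [Matrix.det_mul]; exact (hunit x hx).mul hu), mul_one, map_pow, hgen]
    rw [hJ, this, Jinv_det]
  · intro γ hγ y hy π
    rw [hJ, hJ]
    by_cases hγβ : γ = β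
    · subst hγβ
      -- γ = β
      let g : Matrix (Fin (m + 1)) (Fin (m + 1)) k := y.submatrix ε.symm ε.symm
      have hgy : exf b γ ε g = ext b γ y := by
        rw [exf]
        congr 1
        ext i j
        simp [g]
      have hgd : g.det = y.det := Matrix.det_submatrix_equiv_self ε.symm y
      have hg0 : g.det ≠ 0 := by rw [hgd]; exact hy.ne_zero
      have key : map (eval (Tr b w (ext b γ y) π)) (FP b w γ ε (p ^ e - 1) P) =
          (g.det ^ (p ^ e - 1))⁻¹ • rs g (map (eval π) (FP b w γ ε (p ^ e - 1) P)) := by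
        refine eq_of_eval_det fun x hx => ?_
        rw [hev _ x hx, ← Tr_mul b w _ _ (isBlk_ext b γ y), ← hgy, ← exf_mul, smul_eval]
        have h5 : eval (fun z => x z.1 z.2) (rs g (map (eval π) (FP b w γ ε (p ^ e - 1) P))) =
            eval (fun z => (x * g) z.1 z.2) (map (eval π) (FP b w γ ε (p ^ e - 1) P)) := by
          have h6 : (eval fun z : Fin (m + 1) × Fin (m + 1) => x z.1 z.2).comp
              (rs g : MvPolynomial (Fin (m + 1) × Fin (m + 1)) k →ₐ[k]
                MvPolynomial (Fin (m + 1) × Fin (m + 1)) k).toRingHom =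
              eval fun z => (x * g) z.1 z.2 := by
            refine MvPolynomial.ringHom_ext ?_ ?_
            · intro r; simp
            · intro i
              simp only [RingHom.comp_apply, AlgHom.toRingHom_eq_coe, RingHom.coe_coe, rs_X,
                map_sum, map_mul, eval_C, eval_X, Matrix.mul_apply]
              exact Finset.sum_congr rfl fun l _ => mul_comm _ _
          exact DFunLike.congr_fun h6 _
        rw [h5, hev π (x * g) (by rw [Matrix.det_mul]; exact mul_ne_zero hx hg0),
          Matrix.det_mul, mul_pow]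
        have h7 : g.det ^ (p ^ e - 1) ≠ 0 := pow_ne_zero _ hg0
        field_simp
      rw [key]
      refine Jinv_rs p e m _ g g⁻¹ (Matrix.mul_nonsing_inv _ (isUnit_iff_ne_zero.2 hg0)) _ ?_ _
      exact inv_mul_cancel₀ (pow_ne_zero _ hg0)
    · have hγT : γ ∈ T := (Finset.mem_insert.1 hγ).resolve_left hγβ
      congr 1
      refine eq_of_eval_det fun x hx => ?_
      rw [hev _ x hx, hev _ x hx, ← Tr_mul b w _ _ (isBlk_ext b γ y)]
      have h8 : exf b β ε x * ext b γ y = ext b γ y * exf b β ε x :=
        ext_comm b (Ne.symm hγβ) _ _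
      rw [h8, Tr_mul b w _ _ (isBlk_exf b β ε x), h3 γ hγT y hy]

end step

end K865.GeoIter
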