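import Mathlib
import Groth.Agent.ShStab.K865.GeoIter
import Groth.Agent.ShStab.K991.Ten

/-!
# The semi-invariant over an algebraically closed field of characteristic `p`
-/

set_option autoImplicit false

namespace K865.SemiK

open K865.TenAct K865.Asm K865.ValUnit K865.ExPoly K865.GeoIter MvPolynomial
open scoped BigOperators

variable {R A B : Type*} [Fintype R] [DecidableEq R] [Fintype A] [DecidableEq A] [DecidableEq B]

/-- evaluation through `optionEquivLeft` -/
theorem eval_option {k : Type*} [CommRing k] {σ : Type*} (π : Option σ → k)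
    (P : MvPolynomial (Option σ) k) :
    eval π P = ((optionEquivLeft k σ P).map (eval fun i => π (some i))).eval (π none) := by
  have : (eval π : MvPolynomial (Option σ) k →+* k) =
      ((Polynomial.evalRingHom (π none)).comp
        (Polynomial.mapRingHom (eval fun i => π (some i)))).comp
        (optionEquivLeft k σ).toAlgHom.toRingHom := by
    refine MvPolynomial.ringHom_ext ?_ ?_
    · intro r
      simp
    · intro o
      cases o with
      | none => simp
      | some i => simp
  exact DFunLike.congr_fun this P

/-- the invariant polynomial on `U × A¹` -/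
theorem exists_invariant (p : ℕ) [Fact p.Prime] {k : Type*} [Field k] [IsAlgClosed k] [CharP k p]
    (b : R → B) (w : B → ℕ) (u : (A → R) → k)
    (hK : ∀ h : Matrix R R k, IsBlk b h → IsUnit h.det → InCone (fun j => w (b j)) (act h u)) :
    ∃ P : MvPolynomial (Option (A → R)) k,
      (∀ π : Option (A → R) → k, π none = 0 → eval π P = 0) ∧
      (eval (fun o => o.elim 1 u) P = 1) ∧
      (∀ h : Matrix R R k, IsBlk b h → IsUnit h.det → ∀ π, eval (Tr b w h π) P = eval π P) := by
  classical
  haveI : Infinite k := IsAlgClosed.instInfinite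
  obtain ⟨Q, hQ⟩ := exists_poly b w u hK
  have key : ∀ T : Finset B, T ⊆ Finset.univ.image b → ∃ P : MvPolynomial (Option (A → R)) k,
      (∀ π : Option (A → R) → k, π none = 0 → eval π P = 0) ∧
      (∀ h : Matrix R R k, IsBlk b h → IsUnit h.det →
        eval (Tr b w h fun o => o.elim 1 u) P = 1) ∧
      (∀ γ ∈ T, ∀ y : Matrix {i // b i = γ} {i // b i = γ} k, IsUnit y.det →
        ∀ π, eval (Tr b w (ext b γ y) π) P = eval π P) := by
    intro T
    induction T using Finset.induction_on with
    | empty =>
      intro _
      refine ⟨X none * Q, ?_, ?_, ?_⟩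
      · intro π hπ
        rw [map_mul, eval_X, hπ, zero_mul]
      · intro h hh hu
        rw [map_mul, eval_X]
        have h1 := hQ h hh hu
        have h2 : (Tr b w h fun o => o.elim 1 u) = fun o => o.elim (chi b w h)⁻¹ (act h u) := by
          funext o
          cases o with
          | none => simp [Tr]
          | some J => rfl
        rw [h2, ← h1]
        exact inv_mul_cancel₀ (isUnit_chi w hh hu).ne_zero
      · intro γ hγ
        exact absurd hγ (Finset.notMem_empty γ)
    | insert β T hβ ih =>
      intro hT
      obtain ⟨P, h1, h2, h3⟩ := ih (fun γ hγ => hT (Finset.mem_insert_of_mem hγ))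
      exact step p b w u β (hT (Finset.mem_insert_self _ _)) T hβ P h1 h2 h3
  obtain ⟨P, h1, h2, h3⟩ := key _ (Finset.Subset.refl _)
  refine ⟨P, h1, ?_, ?_⟩
  · have := h2 1 (IsBlk.one b) (by simp)
    rwa [Tr_one] at this
  · refine blk_induction b (fun h => ∀ π, eval (Tr b w h π) P = eval π P) ?_ ?_ ?_
    · intro π
      rw [Tr_one]
    · intro g h _ hh hPg hPh π
      rw [Tr_mul b w g h hh, hPg, hPh]
    · intro β hβ x hx π
      exact h3 β hβ x hx π

/-- the semi-invariant over `k` -/
theorem exists_semi (p : ℕ) [Fact p.Prime] {k : Type*} [Field k] [IsAlgClosed k] [CharP k p]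
    (b : R → B) (w : B → ℕ) (u : (A → R) → k)
    (hK : ∀ h : Matrix R R k, IsBlk b h → IsUnit h.det → InCone (fun j => w (b j)) (act h u)) :
    ∃ (D : ℕ) (f : MvPolynomial (A → R) k), 0 < D ∧
      (∀ h : Matrix R R k, IsBlk b h → IsUnit h.det → ∀ x : (A → R) → k,
        eval (act h x) f = chi b w h ^ D * eval x f) ∧ eval u f ≠ 0 := by
  classical
  haveI : Infinite k := IsAlgClosed.instInfinite
  obtain ⟨P, h1, h2, h3⟩ := exists_invariant p b w u hK
  let F := optionEquivLeft k (A → R) P
  have hF1 : (F.map (eval u)).eval 1 = 1 := by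
    have := eval_option (fun o : Option (A → R) => o.elim 1 u) P
    rw [h2] at this
    exact this.symm
  have hF0 : (F.map (eval u)).eval 0 = 0 := by
    have := eval_option (fun o : Option (A → R) => o.elim 0 u) P
    rw [h1 _ rfl] at this
    exact this.symm
  obtain ⟨D, hD, hDu⟩ : ∃ D, 0 < D ∧ eval u (F.coeff D) ≠ 0 := by
    by_contra hcon
    push Not at hcon
    have h4 : F.map (eval u) = Polynomial.C ((F.map (eval u)).coeff 0) := by
      ext n
      rw [Polynomial.coeff_map, Polynomial.coeff_C]
      by_cases hn : n = 0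
      · subst hn; simp
      · rw [if_neg hn, hcon n (Nat.pos_of_ne_zero hn)]
    rw [h4, Polynomial.eval_C] at hF0 hF1
    rw [hF0] at hF1
    exact zero_ne_one hF1
  refine ⟨D, F.coeff D, hD, ?_, hDu⟩
  intro h hh hu x
  have hc : chi b w h ≠ 0 := (isUnit_chi w hh hu).ne_zero
  have h5 : (F.map (eval (act h x))).comp (Polynomial.C (chi b w h)⁻¹ * Polynomial.X) =
      F.map (eval x) := by
    apply Polynomial.funext
    intro z
    have h6 := h3 h hh hu (fun o => o.elim z x)
    rw [eval_option, eval_option] at h6
    rw [Polynomial.eval_comp, Polynomial.eval_mul, Polynomial.eval_C, Polynomial.eval_X]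
    exact h6
  have h7 := congrArg (fun G => Polynomial.coeff G D) h5
  simp only [Polynomial.comp_C_mul_X_coeff, Polynomial.coeff_map] at h7
  rw [← h7, inv_pow]
  field_simp

end K865.SemiK
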