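import Mathlib
import Groth.Agent.ShStab.K865.SemiK
import Groth.Agent.ShStab.K672.FpDesc

/-!
# StmtM1: the semi-invariant over `F_p`
-/

set_option autoImplicit false
universe u

namespace K865.M1

open K865.TenAct K865.ValUnit K865.SemiK K991.Ten MvPolynomial

theorem inCone_of_inHull {R A : Type*} [Fintype R] [DecidableEq R] [Fintype A] [DecidableEq A]
    {k : Type*} [Zero k] {N : ℕ} {w : R → ℕ} {u : (A → R) → k} (h : InHull N w u) :
    InCone w u := by
  obtain ⟨t, h1, h2, _, h4⟩ := h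
  exact ⟨t, h1, h2, h4⟩

/-- (N3) -/
theorem stmtM1 (p : ℕ) [Fact p.Prime] : StmtM1.{u} p := by
  intro k _ _ _ R A B _ _ _ _ _ b w N u hK
  obtain ⟨D, f, hD, hf, hu⟩ := exists_semi p b w u
    (fun h hh hhu => inCone_of_inHull (hK h hh hhu))
  obtain ⟨f0, h1, h2⟩ := K672.FpDesc.descent b w D u f hf hu
  exact ⟨D, f0, hD, h1, h2⟩

end K865.M1
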